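import Cfsg.Agent.Lib.AF.Pair

/-!
# Burnside's theorem on transitive groups of prime degree (proof of P. Mueller)
-/

set_option autoImplicit false
set_option linter.unusedSectionVars false

namespace Cfsg.Agent.AF

open Finset Polynomial MulAction

theorem affine_of_diff {p : ℕ} [hp : Fact p.Prime] (π : ZMod p → ZMod p)
    (hπ : Function.Injective π) (U : Finset (ZMod p)) (h0 : (0 : ZMod p) ∉ U) (hne : U.Nonempty)
    (hU : 2 * #U < p) (H : ∀ i, ∀ u ∈ U, π (i + u) - π i ∈ U) : ∃ a c, ∀ i, π i = a * i + c := by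
  classical
  let f : (ZMod p)[X] := Lagrange.interpolate univ id π
  have f1 : ∀ i, f.eval i = π i := fun i =>
    Lagrange.eval_interpolate_at_node (v := id) π (Function.injective_id.injOn) (mem_univ i)
  have f2 : f.natDegree < p := by
    have := Lagrange.degree_interpolate_lt (s := univ) (v := id) π (Function.injective_id.injOn)
    rw [card_univ, ZMod.card] at this
    by_cases h : f = 0
    · rw [h]; exact hp.out.pos
    · exact (natDegree_lt_iff_degree_lt h).2 this
  by_cases hn : f.natDegree ≤ 1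
  · obtain ⟨a, c, e⟩ := exists_eq_X_add_C_of_natDegree_le_one hn
    exact ⟨a, c, fun i => by rw [← f1, e]; simp⟩
  exfalso
  set n := f.natDegree with hn'
  have hf0 : f ≠ 0 := fun e => hn (by rw [hn', e]; simp)
  let S : ℕ → ZMod p := fun k => ∑ u ∈ U, u ^ k
  have hex : ∃ r, 1 ≤ r ∧ r ≤ #U ∧ S r ≠ 0 := by
    by_contra hc
    push Not at hc
    have := Matrix.eq_zero_of_forall_pow_sum_mul_pow_eq_zero (f := fun j => (U.equivFin.symm j : ZMod p))
      (v := fun j => (U.equivFin.symm j : ZMod p))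
      (Subtype.val_injective.comp U.equivFin.symm.injective) fun i => by
        rw [← hc (i + 1) (by omega) i.2, Equiv.sum_comp U.equivFin.symm
          (fun u : U => (u : ZMod p) * (u : ZMod p) ^ (i : ℕ)),
          sum_coe_sort U (fun u => u * u ^ (i : ℕ))]
        exact sum_congr rfl fun _ _ => by ring
    obtain ⟨u, hu⟩ := hne
    have := congrFun this (U.equivFin ⟨u, hu⟩)
    simp only [Equiv.symm_apply_apply, Pi.zero_apply] at this
    exact h0 (this ▸ hu)
  obtain ⟨r1, r2, r3⟩ := Nat.find_spec hex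
  set r := Nat.find hex with hr
  have r4 : ∀ j, 1 ≤ j → j < r → S j = 0 := fun j h1 h2 => by
    by_contra h3
    exact Nat.find_min hex h2 ⟨h1, by omega, h3⟩
  let w := (p - 1) / n
  have w1 : n * w ≤ p - 1 := Nat.mul_div_le _ _
  have w2 : p - 1 < n * (w + 1) := Nat.lt_mul_div_succ _ (by omega)
  have w3 : 1 ≤ w := (Nat.le_div_iff_mul_le (by omega)).2 (by omega)
  have w4 : r < n * w := by
    have : n ≤ n * w := Nat.le_mul_of_pos_right _ w3
    rw [mul_add] at w2
    omega
  have g1 : (f ^ w).natDegree = n * w := by rw [natDegree_pow, mul_comm]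
  have AB : ∑ u ∈ U, taylor u (f ^ w) = ∑ u ∈ U, (C u + f) ^ w := by
    refine eq_of_natDegree_lt_card_of_eval_eq _ _ Function.injective_id (fun i => ?_) ?_
    · simp only [id, eval_finsetSum, taylor_eval, eval_pow, eval_add, eval_C, f1]
      refine sum_bij (fun u _ => π (i + u) - π i) (H i) (fun a _ c _ e => ?_) (fun c hc => ?_)
        (fun a _ => by ring)
      · exact add_left_cancel (hπ (sub_left_injective e))
      · obtain ⟨a, ha, e⟩ := surj_on_of_inj_on_of_card_le (fun u _ => π (i + u) - π i) (H i)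
          (fun a c _ _ e => add_left_cancel (hπ (sub_left_injective e))) le_rfl c hc
        exact ⟨a, ha, e.symm⟩
    · rw [ZMod.card]
      have := hp.out.pos
      refine max_lt (lt_of_le_of_lt (natDegree_sum_le_of_forall_le _ _ (n := n * w) fun u _ => ?_)
        (by omega)) (lt_of_le_of_lt (natDegree_sum_le_of_forall_le _ _ (n := n * w) fun u _ => ?_)
        (by omega))
      · rw [natDegree_taylor, g1]
      · rw [natDegree_pow, add_comm, natDegree_add_C, mul_comm]
  have e := congrArg (coeff · (n * w - r)) AB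
  simp only [finsetSum_coeff] at e
  have eA : ∑ u ∈ U, (taylor u (f ^ w)).coeff (n * w - r) =
      S 0 * (f ^ w).coeff (n * w - r) + S r * ((n * w).choose r * (f ^ w).leadingCoeff) := by
    have : ∀ u, (taylor u (f ^ w)).coeff (n * w - r) = ∑ j ∈ range (r + 1),
        (hasseDeriv (n * w - r) (f ^ w)).coeff j * u ^ j := fun u => by
      rw [taylor_coeff, eval_eq_sum_range' (n := r + 1)]
      have := natDegree_hasseDeriv_le (f ^ w) (n * w - r)
      omega
    simp only [this]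
    rw [sum_comm, sum_range_succ, sum_range_eq_add_Ico _ (by omega : 0 < r), sum_eq_zero
      (s := Ico 1 r) fun j hj => by
        rw [← mul_sum, show ∑ u ∈ U, u ^ j = 0 from r4 j (mem_Ico.1 hj).1 (mem_Ico.1 hj).2,
          mul_zero]]
    simp only [← mul_sum, hasseDeriv_coeff, zero_add, Nat.choose_self, Nat.cast_one, one_mul,
      add_zero, leadingCoeff, g1]
    rw [show r + (n * w - r) = n * w by omega, Nat.choose_symm w4.le]
    ring
  have eB : ∑ u ∈ U, ((C u + f) ^ w).coeff (n * w - r) = S 0 * (f ^ w).coeff (n * w - r) := by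
    have : ∀ u, ((C u + f) ^ w).coeff (n * w - r) = ∑ j ∈ range (w + 1),
        u ^ j * ((f ^ (w - j)).coeff (n * w - r) * w.choose j) := fun u => by
      rw [add_pow, finsetSum_coeff]
      refine sum_congr rfl fun j _ => ?_
      rw [← C_pow, mul_assoc, coeff_C_mul, ← C_eq_natCast, coeff_mul_C]
    simp only [this]
    rw [sum_comm, sum_range_eq_add_Ico _ (by omega : 0 < w + 1), sum_eq_zero
      (s := Ico 1 (w + 1)) fun j hj => ?_]
    · simp [← sum_mul, S]
    · obtain ⟨j1, j2⟩ := mem_Ico.1 hj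
      rw [← sum_mul]
      by_cases hj : j < r
      · rw [show ∑ u ∈ U, u ^ j = 0 from r4 j j1 hj, zero_mul]
      · rw [coeff_eq_zero_of_natDegree_lt, zero_mul, mul_zero]
        rw [natDegree_pow, ← hn']
        obtain ⟨d, hd⟩ : ∃ d, w = j + d := ⟨w - j, by omega⟩
        rw [hd, add_tsub_cancel_left, Nat.lt_sub_iff_add_lt]
        nlinarith
  rw [eA, eB, add_eq_left] at e
  refine mul_ne_zero r3 (mul_ne_zero ?_ (leadingCoeff_ne_zero.2 (pow_ne_zero _ hf0))) e
  rw [Ne, ZMod.natCast_eq_zero_iff, ← hp.out.coprime_iff_not_dvd]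
  exact hp.out.coprime_choose_of_lt (by omega) w4.le

/-- Burnside: a transitive group of prime degree is doubly transitive or affine. -/
theorem burnside {G X : Type*} [Group G] [Finite G] [MulAction G X] {p : ℕ} [hp : Fact p.Prime]
    {Ω : Set X} (hΩ : Ω.ncard = p) {a : X} (ha : ∀ x, x ∈ Ω ↔ ∃ g : G, g • a = x) :
    (∀ x ∈ Ω, ∀ y ∈ Ω, ∀ x' ∈ Ω, ∀ y' ∈ Ω, x ≠ y → x' ≠ y' → ∃ g : G, g • x = x' ∧ g • y = y') ∨
    ∃ (t : G) (e : ZMod p → X), Function.Injective e ∧ Set.range e = Ω ∧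
      (∀ i, t • e i = e (i + 1)) ∧ ∀ g : G, ∃ c d, ∀ i, g • e i = e (c * i + d) := by
  classical
  have hfin : Ω.Finite := Set.finite_of_ncard_ne_zero (hΩ ▸ hp.out.ne_zero)
  have hΩ' : orbit G a = Ω := Set.ext fun x => (ha x).symm
  obtain ⟨P⟩ : Nonempty (Sylow p G) := inferInstance
  obtain ⟨t, ht, hta⟩ : ∃ t ∈ (P : Subgroup G), t • a ≠ a := by
    by_contra hc
    push Not at hc
    have := Subgroup.index_dvd_of_le (show (P : Subgroup G) ≤ stabilizer G a from hc)
    rw [index_stabilizer, hΩ', hΩ] at this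
    exact P.not_dvd_index this
  have inj : ∀ i j, i < period t a → j < period t a → t ^ i • a = t ^ j • a → i = j := by
    intro i j hi hj e
    wlog h : i ≤ j generalizing i j
    · exact (this j i hj hi e.symm (by omega)).symm
    obtain ⟨d, rfl⟩ := Nat.exists_eq_add_of_le h
    rw [pow_add, mul_smul, smul_left_cancel_iff, eq_comm, pow_smul_eq_iff_period_dvd] at e
    have := Nat.eq_zero_of_dvd_of_lt e (by omega)
    omega
  have per : period t a = p := by
    obtain ⟨k, hk⟩ := IsPGroup.iff_orderOf.1 P.isPGroup' ⟨t, ht⟩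
    rw [Subgroup.orderOf_mk] at hk
    obtain ⟨j, -, hj⟩ := (Nat.dvd_prime_pow hp.out).1 (hk ▸ period_dvd_orderOf t a)
    have h1 : period t a ≤ p := by
      rw [← hΩ, ← card_range (period t a), ← Set.ncard_coe_finset]
      exact Set.ncard_le_ncard_of_injOn (fun i => t ^ i • a) (fun i _ => (ha _).2 ⟨_, rfl⟩)
        (fun i hi j hj => inj i j (by simpa using hi) (by simpa using hj)) hfin
    have h2 : j ≠ 0 := fun e => hta (period_eq_one_iff.1 (by rw [hj, e, pow_zero]))
    exact le_antisymm h1 (Nat.le_of_dvd (hj ▸ pow_pos hp.out.pos j) (hj ▸ dvd_pow_self p h2))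
  let e : ZMod p → X := fun i => t ^ i.val • a
  have e1 : Function.Injective e := fun i j h =>
    ZMod.val_injective p (inj _ _ (per ▸ ZMod.val_lt i) (per ▸ ZMod.val_lt j) h)
  have e2 : Set.range e = Ω := by
    refine Set.eq_of_subset_of_ncard_le ?_ ?_ hfin
    · rintro _ ⟨i, rfl⟩
      exact (ha _).2 ⟨_, rfl⟩
    · rw [Set.ncard_range_of_injective e1, hΩ, Nat.card_zmod]
  have e3 : ∀ i j : ZMod p, t ^ j.val • e i = e (i + j) := fun i j => by
    simp only [e]
    have := pow_mod_period_smul (i.val + j.val) (m := t) (a := a)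
    rw [per] at this
    rw [ZMod.val_add, this, add_comm, pow_add, mul_smul]
  have hπ : ∀ (g : G) i, ∃ j, g • e i = e j := fun g i => by
    obtain ⟨j, hj⟩ : g • e i ∈ Set.range e := e2 ▸ (ha _).2 ⟨g * t ^ i.val, mul_smul _ _ _⟩
    exact ⟨j, hj.symm⟩
  choose π hπ using hπ
  have π1 : ∀ g, Function.Injective (π g) := fun g i j h =>
    e1 (smul_left_cancel g (by rw [hπ, hπ, h]))
  have π2 : ∀ g i, π g⁻¹ (π g i) = i := fun g i => e1 (by rw [← hπ, ← hπ, inv_smul_smul])
  by_cases h2 : ∀ u u' : ZMod p, u ≠ 0 → u' ≠ 0 → ∃ g : G, g • e 0 = e 0 ∧ g • e u = e u'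
  · left
    rw [← e2]
    rintro _ ⟨i, rfl⟩ _ ⟨j, rfl⟩ _ ⟨i', rfl⟩ _ ⟨j', rfl⟩ h h'
    obtain ⟨g, g1, g2⟩ := h2 (j + -i) (j' + -i') (fun e => h (by congr 1; grind))
      (fun e => h' (by congr 1; grind))
    exact ⟨t ^ i'.val * g * t ^ (-i).val, by simp [mul_smul, e3, g1], by simp [mul_smul, e3, g2]⟩
  right
  push Not at h2
  obtain ⟨u0, u1, a0, a1, a2⟩ := h2
  let U : Finset (ZMod p) := univ.filter fun u => ∃ g : G, g • e 0 = e 0 ∧ g • e u0 = e u
  have U0 : (0 : ZMod p) ∉ U := fun h => by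
    obtain ⟨g, g1, g2⟩ := (mem_filter.1 h).2
    exact a0 (e1 (smul_left_cancel g (g2.trans g1.symm)))
  have U1 : ∀ g i, ∀ u ∈ U, π g (i + u) - π g i ∈ U := fun g i u hu => by
    obtain ⟨k, k1, k2⟩ := (mem_filter.1 hu).2
    exact mem_filter.2 ⟨mem_univ _, t ^ (-π g i).val * g * t ^ i.val * k,
      by rw [mul_smul, mul_smul, mul_smul, k1, e3, hπ g, e3, zero_add, add_neg_cancel],
      by rw [mul_smul, mul_smul, mul_smul, k2, e3, hπ g, e3, add_comm u, sub_eq_add_neg]⟩
  refine ⟨t, e, e1, e2, fun i => by simpa [ZMod.val_one] using e3 i 1, fun g => ?_⟩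
  suffices ∃ c d, ∀ i, π g i = c * i + d by simpa only [hπ, e1.eq_iff]
  by_cases hU : 2 * #U < p
  · exact affine_of_diff _ (π1 g) U U0 ⟨u0, mem_filter.2 ⟨mem_univ _, 1, by simp⟩⟩ hU (U1 g)
  · refine affine_of_diff _ (π1 g) (insert 0 U)ᶜ (by simp) ⟨u1, ?_⟩ ?_ fun i u hu => ?_
    · simp only [mem_compl, mem_insert, not_or]
      exact ⟨a1, fun h => let ⟨g, g1, g2⟩ := (mem_filter.1 h).2; a2 g g1 g2⟩
    · rw [card_compl, card_insert_of_notMem U0, ZMod.card]
      have := hp.out.pos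
      omega
    · simp only [mem_compl, mem_insert, not_or] at hu ⊢
      refine ⟨fun h => hu.1 (by simpa using π1 g (sub_eq_zero.1 h)), fun h => hu.2 ?_⟩
      simpa [π2] using U1 g⁻¹ (π g i) _ h

/-- variant: an element fixing two points fixes all points -/
theorem burnside' {G X : Type*} [Group G] [Finite G] [MulAction G X] {p : ℕ} [hp : Fact p.Prime]
    {Ω : Set X} (hΩ : Ω.ncard = p) {a : X} (ha : ∀ x, x ∈ Ω ↔ ∃ g : G, g • a = x) :
    (∀ x ∈ Ω, ∀ y ∈ Ω, ∀ x' ∈ Ω, ∀ y' ∈ Ω, x ≠ y → x' ≠ y' → ∃ g : G, g • x = x' ∧ g • y = y') ∨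
    ∀ x ∈ Ω, ∀ y ∈ Ω, x ≠ y → ∀ g : G, g • x = x → g • y = y → ∀ z ∈ Ω, g • z = z := by
  refine (burnside hΩ ha).imp_right ?_
  rintro ⟨t, e, e1, rfl, -, e4⟩ _ ⟨i, rfl⟩ _ ⟨j, rfl⟩ h g h1 h2 _ ⟨k, rfl⟩
  obtain ⟨c, d, e5⟩ := e4 g
  rw [e5, e1.eq_iff] at h1 h2 ⊢
  have h3 : i ≠ j := fun e => h (by rw [e])
  have : (c - 1) * (i - j) = 0 := by linear_combination h1 - h2
  have hc : c = 1 := sub_eq_zero.1 ((mul_eq_zero.1 this).resolve_right (sub_ne_zero.2 h3))
  subst hc
  linear_combination h1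

end Cfsg.Agent.AF
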