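import Cfsg.Agent.Lib.AF.Pair

/-!
# Antiflag transitive groups over the field with two elements
-/

set_option autoImplicit false
set_option linter.unusedSectionVars false

namespace Cfsg.Agent.AF

open Finset MulAction

variable {W W' : Type*} [AddCommGroup W] [AddCommGroup W'] [Finite W] [Finite W']
  {K : Type*} [Group K] [Finite K] [DistribMulAction K W] [DistribMulAction K W']

/-- antiflag transitivity -/
structure AFH (K : Type*) [Group K] [DistribMulAction K W] [DistribMulAction K W']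
    (b : W →+ W' →+ ZMod 2) : Prop extends Pr b where
  inv : ∀ (g : K) w l, b (g • w) (g • l) = b w l
  af : ∀ w w' l l', b w l = 1 → b w' l' = 1 → ∃ g : K, g • w = w' ∧ g • l = l'

variable {b : W →+ W' →+ ZMod 2}

/-- `K_{w, y + <w>}` is transitive on the hyperplanes missing `w` -/
def Good (K : Type*) [Group K] [DistribMulAction K W] [DistribMulAction K W']
    (b : W →+ W' →+ ZMod 2) (w y : W) : Prop :=
  ∀ l l', b w l = 1 → b w l' = 1 → ∃ g : K, g • w = w ∧ (g • y = y ∨ g • y = y + w) ∧ g • l = l'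

/-- the family of subspaces attached to the odd orbit on lines -/
structure Fam (K : Type*) [Group K] [DistribMulAction K W] (S : W → AddSubgroup W) : Prop where
  eqv : ∀ (g : K) w u, u ∈ S w → g • u ∈ S (g • w)
  self : ∀ w, w ∈ S w
  big : ∀ w ≠ 0, ∃ y ∈ S w, y ≠ 0 ∧ y ≠ w
  tr : ∀ w, ∀ y ∈ S w, ∀ y' ∈ S w, y ≠ 0 → y ≠ w → y' ≠ 0 → y' ≠ w →
    ∃ g : K, g • w = w ∧ g • y = y'
  per : ∀ w ≠ 0, ∀ u ∉ S w, ∀ y ∈ S w, ∃ g : K, g • w = w ∧ g • u = u + y

namespace AFH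

theorem flip (h : AFH K b) : AFH K b.flip :=
  ⟨h.toPr.flip, fun g l w => h.inv g w l, fun l l' w w' h1 h2 =>
    let ⟨g, e1, e2⟩ := h.af w w' l l' h1 h2; ⟨g, e2, e1⟩⟩

theorem trans (h : AFH K b) {w w' : W} (h1 : w ≠ 0) (h2 : w' ≠ 0) : ∃ g : K, g • w = w' := by
  obtain ⟨l, hl⟩ := h.exists_one h1
  obtain ⟨l', hl'⟩ := h.exists_one h2
  exact (h.af w w' l l' hl hl').imp fun _ => And.left

theorem per1 (h : AFH K b) (w : W) {v : W} (h0 : v ≠ 0) (h1 : v ≠ w) :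
    ∃ g : K, g • w = w ∧ g • v = v + w := by
  obtain ⟨m, hm, hm'⟩ := h.sep1 h0 h1
  refine h.exists_smul h.inv (stabilizer K w) hm' (by simp [hm, hm']) fun l hl => ?_
  have : b w l = 1 := z2_one fun e => hl (by simp [e])
  exact h.af w w l (l + m) this (by simp [this, hm])

theorem swap (h : AFH K b) {w v : W} (hw : w ≠ 0) (h0 : v ≠ 0) (h1 : v ≠ w) :
    ∃ g : K, g • w = v ∧ g • v = w := by
  have := h.two w; have := h.two v
  obtain ⟨g1, a1, b1⟩ := h.per1 w h0 h1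
  obtain ⟨g2, a2, b2⟩ := h.per1 (v + w) hw (by grind)
  obtain ⟨g3, a3, b3⟩ := h.per1 v (v := v + w) (by grind) (by grind)
  refine ⟨g3 * g2 * g1, ?_, ?_⟩
  · rw [mul_smul, mul_smul, a1, b2, show w + (v + w) = v by grind, a3]
  · rw [mul_smul, mul_smul, b1, a2, b3]; grind

theorem exists_good (h : AFH K b) {w v : W} (h0 : v ≠ 0) (h1 : v ≠ w) :
    ∃ y, y ≠ 0 ∧ y ≠ w ∧ Good K b w y := by
  obtain ⟨T, hT, hp, ho⟩ := exists_syl (stabilizer K w)
  obtain ⟨y, hy, hy'⟩ := exists_fixed_mod h.two hp (ln1 h.two w) (by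
    rintro g hg a (rfl | rfl)
    · exact Or.inl (smul_zero g)
    · exact Or.inr (hT hg)) (v := v) (by rintro (e | e); exacts [h0 e, h1 e])
  refine ⟨y, fun e => hy (Or.inl e), fun e => hy (Or.inr e), fun l l' hl hl' => ?_⟩
  obtain ⟨k, hk⟩ := ncard_fiber_pow h.flip.two ⊤ (b w) (AddSubgroup.mem_top l) hl 1
  obtain ⟨g, hg, rfl⟩ := h.af w w l l' hl hl'
  obtain ⟨t, ht, e⟩ := trans_of_odd (a := l) (k := k) ho (by
    rw [← hk]; congr 1; ext a
    exact ⟨fun ⟨g, hg, e⟩ => ⟨trivial, by rw [← e, ← show g • w = w from hg, h.inv, hl]⟩,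
      fun ha => h.af w w l a hl ha.2⟩) hg
  have := h.two y
  refine ⟨t, hT ht, (hy' t ht).imp ?_ ?_, e⟩ <;> grind

theorem good_smul (h : AFH K b) {w y : W} (hg : Good K b w y) (k : K) :
    Good K b (k • w) (k • y) := fun l l' hl hl' => by
  obtain ⟨g, e1, e2, e3⟩ := hg (k⁻¹ • l) (k⁻¹ • l') (by rw [← h.inv k, smul_inv_smul, hl])
    (by rw [← h.inv k, smul_inv_smul, hl'])
  refine ⟨k * g * k⁻¹, by simp [mul_smul, e1], e2.imp ?_ ?_, by simp [mul_smul, e3]⟩ <;>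
    intro e <;> simp [mul_smul, e]

theorem good_fix (h : AFH K b) {w y : W} (hg : Good K b w y) {l l' : W'} (h1 : b w l = 1)
    (h2 : b w l' = 1) (h3 : b y l = b y l') : ∃ g : K, g • w = w ∧ g • y = y ∧ g • l = l' := by
  obtain ⟨g, e1, e2 | e2, e3⟩ := hg l l' h1 h2
  · exact ⟨g, e1, e2, e3⟩
  · have := h.inv g y l
    rw [e2, e3, map_add, AddMonoidHom.add_apply, h2, h3] at this
    simp at this

theorem good_per (h : AFH K b) {w y : W} (hg : Good K b w y) (hw : w ≠ 0) (h0 : y ≠ 0)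
    (h1 : y ≠ w) {u m : W} (hu : u ∉ ln2 h.two w y) (hm : m ∈ ln2 h.two w y) :
    ∃ g : K, g • w = w ∧ g • y = y ∧ g • u = u + m := by
  obtain ⟨l, hl, hl'⟩ := h.sepL _ u hu
  have l1 : b w l = 0 := hl w (by simp [ln2])
  have l2 : b y l = 0 := hl y (by simp [ln2])
  obtain ⟨g, hg, e⟩ := h.exists_smul h.inv (stabilizer K w ⊓ stabilizer K y) hl'
    (v' := u + m) (by simp [hl', hl m hm]) fun l' h' => by
      rcases z2_cases (b w l') with h3 | h3
      · have h4 : b y l' = 1 := z2_one fun h4 => h' (by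
          rcases hm with rfl | rfl | rfl | rfl <;> simp [h3, h4])
        obtain ⟨k, k1, k2⟩ := h.swap hw h0 h1
        have := h.good_smul hg k
        rw [k1, k2] at this
        obtain ⟨g, e1, e2, e3⟩ := h.good_fix this (l' := l' + l) h4 (by simp [h4, l2]) (by simp [l1])
        exact ⟨g, ⟨e2, e1⟩, e3⟩
      · obtain ⟨g, e1, e2, e3⟩ := h.good_fix hg (l' := l' + l) h3 (by simp [h3, l1]) (by simp [l2])
        exact ⟨g, ⟨e1, e2⟩, e3⟩
  exact ⟨g, hg.1, hg.2, e⟩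

theorem exists_fam (h : AFH K b) {w0 y0 : W} (hg : Good K b w0 y0) (hw : w0 ≠ 0) (h0 : y0 ≠ 0)
    (h1 : y0 ≠ w0) : ∃ S : W → AddSubgroup W, Fam K S ∧
      ∀ w u, u ∈ S w ↔ u = 0 ∨ u = w ∨ ∃ g : K, g • w0 = w ∧ g • y0 = u := by
  let R : W → W → Prop := fun w u => ∃ g : K, g • w0 = w ∧ g • y0 = u
  have Ri : ∀ {w u}, R w u → w ≠ 0 ∧ u ≠ 0 ∧ u ≠ w ∧ Good K b w u := by
    rintro _ _ ⟨g, rfl, rfl⟩
    exact ⟨(smul_ne_zero_iff_ne g).2 hw, (smul_ne_zero_iff_ne g).2 h0, by simpa using h1,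
      h.good_smul hg g⟩
  have Rs : ∀ {w u u'} (g : K), R w u → g • w = w → g • u = u' → R w u' := by
    rintro _ _ _ g ⟨k, rfl, rfl⟩ e rfl
    exact ⟨g * k, by rw [mul_smul, e], mul_smul _ _ _⟩
  have Ra : ∀ {w u}, R w u → R w (u + w) := fun {w u} hr => by
    obtain ⟨g, e1, e2⟩ := h.per1 w (Ri hr).2.1 (Ri hr).2.2.1
    exact Rs g hr e1 e2
  have Rp : ∀ {w y u}, R w y → u ∉ ln2 h.two w y → ∃ g : K, g • w = w ∧ g • u = u + y :=
    fun {w y u} hr hu => by
      obtain ⟨i1, i2, i3, i4⟩ := Ri hr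
      obtain ⟨g, e1, -, e3⟩ := h.good_per i4 i1 i2 i3 hu (m := y) (by simp [ln2])
      exact ⟨g, e1, e3⟩
  let S : W → AddSubgroup W := fun w =>
    { carrier := {u | u = 0 ∨ u = w ∨ R w u}
      zero_mem' := Or.inl rfl
      neg_mem' := fun {a} ha => by rwa [neg_eq_of_add_eq_zero_left (h.two a)]
      add_mem' := by
        rintro u u' (rfl | rfl | hu) (rfl | hu' | hu')
        · simp
        · simp [hu']
        · exact Or.inr (Or.inr (by simpa using hu'))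
        · simp
        · simp [hu', h.two]
        · exact Or.inr (Or.inr (add_comm u u' ▸ Ra hu'))
        · exact Or.inr (Or.inr (by simpa using hu))
        · exact Or.inr (Or.inr (by rw [hu']; exact Ra hu))
        · by_cases hm : u ∈ ln2 h.two w u'
          · have := h.two u'
            rcases hm with e | e | e | e
            · exact absurd e (Ri hu).2.1
            · exact absurd e (Ri hu).2.2.1
            · exact Or.inl (by grind)
            · exact Or.inr (Or.inl (by grind))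
          · obtain ⟨g, e1, e2⟩ := Rp hu' hm
            exact Or.inr (Or.inr (Rs g hu e1 e2)) }
  refine ⟨S, ⟨?_, fun w => Or.inr (Or.inl rfl), fun w hw' => ?_, ?_, ?_⟩, fun _ _ => Iff.rfl⟩
  · rintro g w u (rfl | rfl | ⟨k, rfl, rfl⟩)
    · exact Or.inl (smul_zero g)
    · exact Or.inr (Or.inl rfl)
    · exact Or.inr (Or.inr ⟨g * k, mul_smul _ _ _, mul_smul _ _ _⟩)
  · obtain ⟨g, rfl⟩ := h.trans hw hw'
    exact ⟨g • y0, Or.inr (Or.inr ⟨g, rfl, rfl⟩), (smul_ne_zero_iff_ne g).2 h0,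
      by simpa using h1⟩
  · rintro w y (e | e | ⟨g, rfl, rfl⟩) y' (e' | e' | ⟨g', e', rfl⟩) a1 a2 a3 a4 <;>
      try contradiction
    exact ⟨g' * g⁻¹, by simp [mul_smul, e'], by simp [mul_smul]⟩
  · rintro w hw' u hu y (rfl | rfl | hy)
    · exact ⟨1, by simp⟩
    · exact h.per1 y (fun e => hu (Or.inl e)) (fun e => hu (Or.inr (Or.inl e)))
    · refine Rp hy ?_
      rintro (e | e | e | e)
      · exact hu (Or.inl e)
      · exact hu (Or.inr (Or.inl e))
      · exact hu (Or.inr (Or.inr (e ▸ hy)))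
      · exact hu (Or.inr (Or.inr (by rw [e, add_comm]; exact Ra hy)))

variable {S : W → AddSubgroup W}

theorem big_orbit (h : AFH K b) (hS : Fam K S) {w : W} (hw : w ≠ 0) {l l' : W'} (h1 : b w l = 0)
    (h2 : b w l' = 0) (h3 : ∃ u ∈ S w, b u l = 1) (h4 : ∃ u ∈ S w, b u l' = 1) :
    ∃ g : K, g • w = w ∧ g • l = l' := by
  obtain ⟨u, hu, h3⟩ := h3
  obtain ⟨u', hu', h4⟩ := h4
  obtain ⟨m, hm, m1, m2⟩ := exists_both (f := b.flip l) (g := b.flip l') hu hu' h3 h4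
  refine h.flip.exists_smul h.flip.inv (stabilizer K w) m1 m2 fun v hv => ?_
  by_cases hv' : v ∈ S w
  · have m1' : b m l = 1 := m1
    have m2' : b m l' = 1 := m2
    have hv'' : b v l ≠ b v l' := hv
    refine hS.tr w v hv' _ (add_mem hv' hm) ?_ ?_ ?_ ?_ <;> intro e
    · simp [e] at hv''
    · simp [e, h1, h2] at hv''
    · have : b (v + m) l = b (v + m) l' := by simp [e]
      simp [m1', m2', hv''] at this
    · have : b (v + m) l = b (v + m) l' := by simp [e, h1, h2]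
      simp [m1', m2', hv''] at this
  · exact hS.per w hw v hv' m hm

theorem four_mul_ncard (h : AFH K b) {w y : W} (h0 : y ≠ 0) (h1 : y ≠ w) (hw : w ≠ 0) :
    4 * {l | b w l = 0 ∧ b y l = 1}.ncard = Nat.card W' ∧
      2 * {l | b w l = 0}.ncard = Nat.card W' := by
  obtain ⟨l, l1, l2⟩ := h.sep1 h0 h1
  obtain ⟨l', l3⟩ := h.exists_one hw
  have e1 := ncard_fiber (b w).ker (b y) (a := l) l1 l2 1
  have e2 : 2 * {l | b w l = 0}.ncard = Nat.card W' := by
    simpa using ncard_fiber ⊤ (b w) (AddSubgroup.mem_top l') l3 0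
  have e3 : Nat.card (b w).ker = {l | b w l = 0}.ncard := by
    rw [← SetLike.coe_sort_coe, Nat.card_coe_set_eq]; rfl
  change 2 * {l | b w l = 0 ∧ b y l = 1}.ncard = _ at e1
  omega

theorem ncard_big (h : AFH K b) (hS : Fam K S) {l : W'} (hl : l ≠ 0) :
    Nat.card W ≤ 4 * {w | w ≠ 0 ∧ b w l = 0 ∧ ∃ u ∈ S w, b u l = 1}.ncard := by
  classical
  have := Fintype.ofFinite W
  have := Fintype.ofFinite W'
  let r : W → W' → Prop := fun w l => w ≠ 0 ∧ b w l = 0 ∧ ∃ u ∈ S w, b u l = 1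
  have hc : ∀ l' ≠ 0, #(univ.filter (r · l')) ≤ {w | r w l}.ncard := fun l' hl' => by
    obtain ⟨g, rfl⟩ := h.flip.trans hl' hl
    rw [← Set.ncard_coe_finset]
    refine Set.ncard_le_ncard_of_injOn (g • ·) (fun w hw => ?_) (fun _ _ _ _ e => by simpa using e)
    obtain ⟨a1, a2, u, a3, a4⟩ : r w l' := by simpa using hw
    exact ⟨(smul_ne_zero_iff_ne g).2 a1, by rw [h.inv, a2], g • u, hS.eqv g w u a3, by rw [h.inv, a4]⟩
  have hd : ∀ w ≠ 0, Nat.card W' ≤ 4 * #(univ.filter (r w ·)) := fun w hw => by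
    obtain ⟨y, hy, y0, y1⟩ := hS.big w hw
    rw [← (h.four_mul_ncard y0 y1 hw).1, ← Set.ncard_coe_finset]
    refine Nat.mul_le_mul_left 4 (Set.ncard_le_ncard (fun l hl => ?_) (Set.toFinite _))
    exact mem_coe.2 (mem_filter.2 ⟨mem_univ _, hw, hl.1, y, hy, hl.2⟩)
  have e := Finset.sum_card_bipartiteAbove_eq_sum_card_bipartiteBelow (s := univ.erase (0 : W))
    (t := univ.erase (0 : W')) r
  have e1 : #(univ.erase (0 : W)) * Nat.card W' ≤
      4 * ∑ a ∈ univ.erase (0 : W), #((univ.erase (0 : W')).bipartiteAbove r a) := by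
    rw [mul_sum, ← smul_eq_mul]
    refine card_nsmul_le_sum _ _ _ fun w hw => (hd w (ne_of_mem_erase hw)).trans ?_
    gcongr
    intro l hl
    have hl' := (mem_filter.1 hl).2
    refine mem_filter.2 ⟨mem_erase.2 ⟨?_, mem_univ _⟩, hl'⟩
    rintro rfl
    obtain ⟨-, -, u, -, e⟩ := hl'
    simp at e
  have e2 : ∑ a ∈ univ.erase (0 : W'), #((univ.erase (0 : W)).bipartiteBelow r a) ≤
      #(univ.erase (0 : W')) * {w | r w l}.ncard := by
    rw [← smul_eq_mul]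
    refine sum_le_card_nsmul _ _ _ fun l' hl' => le_trans (card_le_card ?_)
      (hc l' (ne_of_mem_erase hl'))
    exact fun w hw => mem_filter.2 ⟨mem_univ _, (mem_filter.1 hw).2⟩
  have e3 : #(univ.erase (0 : W)) = #(univ.erase (0 : W')) := by
    simp only [mem_univ, card_erase_of_mem, card_univ, ← Nat.card_eq_fintype_card, h.card]
  have e4 : 0 < #(univ.erase (0 : W')) := card_pos.2 ⟨l, by simpa using hl⟩
  rw [h.card]
  refine Nat.le_of_mul_le_mul_left ?_ e4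
  rw [e, e3] at e1
  nlinarith

/-- the subspaces of the family are subadditive -/
theorem subadd (h : AFH K b) (hS : Fam K S) {w w' : W} (hw : w ≠ 0) (hw' : w' ≠ 0)
    (hne : w + w' ≠ 0) : S (w + w') ≤ S w ⊔ S w' := by
  intro u hu
  by_contra hu'
  obtain ⟨l, hl, hl'⟩ := h.sepL _ u hu'
  have l0 : l ≠ 0 := by rintro rfl; simp at hl'
  have := h.two w'
  obtain ⟨m, m1, m2⟩ := h.sep1 (v := w) (x := w') hw (by grind)
  obtain ⟨m', m3, m4⟩ := h.sep1 (v := w') (x := w) hw' (by grind)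
  obtain ⟨y, y0, y1⟩ : ∃ y, y ≠ 0 ∧ y ≠ l := by
    by_cases e : m = l
    · refine ⟨m', ?_, ?_⟩
      · rintro rfl; simp at m4
      · rintro rfl; simp [e, m3] at m2
    · exact ⟨m, by rintro rfl; simp at m2, e⟩
  obtain ⟨y, y0, y1, hg⟩ := h.flip.exists_good y0 y1
  obtain ⟨Z, hZ, -⟩ := h.flip.exists_fam hg l0 y0 y1
  obtain ⟨z, hz, z0, z1⟩ := hZ.big l l0
  obtain ⟨c1, c2⟩ := h.flip.four_mul_ncard z0 z1 l0
  have c3 := h.ncard_big hS l0
  let O : Set W := {w | w ≠ 0 ∧ b w l = 0 ∧ ∃ u ∈ S w, b u l = 1}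
  let O' : Set W := {w | b w l = 0 ∧ ∃ u ∈ Z l, b w u = 1}
  obtain ⟨w1, a1, a2⟩ : ∃ w1, w1 ∈ O ∧ w1 ∈ O' := by
    by_contra hn
    have d : Disjoint O {w | b.flip l w = 0 ∧ b.flip z w = 1} :=
      Set.disjoint_left.2 fun x hx hx' => hn ⟨x, hx, hx'.1, z, hz, hx'.2⟩
    have d1 := Set.ncard_union_eq d
    have d2 : O ∪ {w | b.flip l w = 0 ∧ b.flip z w = 1} ⊂ {w | b.flip l w = 0} := by
      refine ⟨?_, fun hs => ?_⟩
      · rintro x (hx | hx)
        exacts [hx.2.1, hx.1]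
      · rcases hs (show (0 : W) ∈ _ from map_zero _) with hx | hx
        · exact hx.1 rfl
        · simpa using hx.2
    have d3 := Set.ncard_lt_ncard d2
    change _ ≤ 4 * O.ncard at c3
    omega
  have k1 : ∀ x ∈ O', x ∈ O := fun x hx => by
    obtain ⟨g, e1, rfl⟩ := h.flip.big_orbit hZ l0 a2.1 hx.1 a2.2 hx.2
    obtain ⟨a3, a4, v, a5, a6⟩ := a1
    exact ⟨(smul_ne_zero_iff_ne g).2 a3, hx.1, g • v, hS.eqv g _ _ a5, by rw [← e1, h.inv, a6]⟩
  have k2 : ∀ x ∈ O, x ∈ O' := fun x hx => by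
    obtain ⟨g, rfl⟩ := h.trans a1.1 hx.1
    obtain ⟨a3, a4, v, a5, a6⟩ := a1
    obtain ⟨k, e1, e2⟩ := h.big_orbit hS hx.1 (l := g • l) (by rw [h.inv, a4]) hx.2.1
      ⟨g • v, hS.eqv g _ _ a5, by rw [h.inv, a6]⟩ hx.2.2
    obtain ⟨a7, z', a8, a9⟩ := a2
    refine ⟨hx.2.1, k • g • z', ?_, by rw [← e1, h.inv, h.inv, a9]⟩
    rw [← e2]
    exact hZ.eqv k _ _ (hZ.eqv g _ _ a8)
  have w1l : b w l = 0 := hl w (AddSubgroup.mem_sup_left (hS.self w))
  have w2l : b w' l = 0 := hl w' (AddSubgroup.mem_sup_right (hS.self w'))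
  obtain ⟨-, z', hz', e⟩ := k2 (w + w') ⟨hne, by simp [w1l, w2l], u, hu, hl'⟩
  rcases z2_cases (b w z') with e1 | e1
  · obtain ⟨-, -, v, hv, e2⟩ := k1 w' ⟨w2l, z', hz', by simpa [e1] using e⟩
    rw [hl v (AddSubgroup.mem_sup_right hv)] at e2
    exact zero_ne_one e2
  · obtain ⟨-, -, v, hv, e2⟩ := k1 w ⟨w1l, z', hz', e1⟩
    rw [hl v (AddSubgroup.mem_sup_left hv)] at e2
    exact zero_ne_one e2

end AFH

end Cfsg.Agent.AF
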