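import Cfsg.Agent.Lib.AF.TwoE
import Cfsg.Agent.Lib.AF.Burnside

/-!
# Transitive linear groups on spaces with a prime number of non-zero vectors
-/

set_option autoImplicit false
set_option linter.unusedSectionVars false

namespace Cfsg.Agent.AF

open Finset MulAction

variable {V : Type*} [AddCommGroup V] [Finite V] {G : Type*} [Group G] [Finite G]
  [DistribMulAction G V]

theorem ncard_ne_zero {p : ℕ} (hV : Nat.card V = p + 1) : {v : V | v ≠ 0}.ncard = p := by
  have := Set.ncard_add_ncard_compl ({0} : Set V)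
  rw [Set.ncard_singleton, hV] at this
  change ({0}ᶜ : Set V).ncard = p
  omega

theorem mers_dich (h2 : ∀ v : V, v + v = 0) {p : ℕ} [hp : Fact p.Prime] (hV : Nat.card V = p + 1)
    (tr : ∀ v w : V, v ≠ 0 → w ≠ 0 → ∃ g : G, g • v = w) :
    (∀ φ : V →+ V, Function.Injective φ → ∃ g : G, ∀ v, g • v = φ v) ∨
    ∃ (t : G) (e : ZMod p → V), Function.Injective e ∧ Set.range e = {v | v ≠ 0} ∧
      (∀ i, t • e i = e (i + 1)) ∧ ∀ g : G, ∃ c d, ∀ i, g • e i = e (c * i + d) := by
  have : Nontrivial V := Finite.one_lt_card_iff_nontrivial.1 (by have := hp.out.pos; omega)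
  obtain ⟨a, ha⟩ := exists_ne (0 : V)
  refine (burnside (G := G) (ncard_ne_zero hV) (a := a) fun x => ⟨tr a x ha, ?_⟩).imp_left
    fun h => TT.all ⟨h2, fun x y x' y' i i' => h x i.1 y i.2.1 x' i'.1 y' i'.2.1 i.2.2.symm
      i'.2.2.symm⟩ fun e => ?_
  · rintro ⟨g, rfl⟩
    exact (smul_ne_zero_iff_ne g).2 ha
  · obtain rfl : p = 15 := by omega
    exact absurd hp.out (by norm_num)

/-- a faithful group of prime order `|V| - 1` is transitive -/
theorem trans_of_card {p : ℕ} [hp : Fact p.Prime] (hV : Nat.card V = p + 1) (hG : Nat.card G = p)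
    (hf : ∀ g : G, (∀ v : V, g • v = v) → g = 1) {v w : V} (hv : v ≠ 0) (hw : w ≠ 0) :
    ∃ g : G, g • v = w := by
  have : Fact (Nat.card G).Prime := hG ▸ hp
  rcases (stabilizer G v).eq_bot_or_eq_top_of_prime_card with e | e
  · have e1 := index_stabilizer G v
    rw [e, Subgroup.index_bot, hG] at e1
    have e2 : orbit G v = {v | v ≠ 0} := Set.eq_of_subset_of_ncard_le (by
      rintro _ ⟨g, rfl⟩; exact (smul_ne_zero_iff_ne g).2 hv) (by rw [ncard_ne_zero hV, e1])
    exact (e2 ▸ hw : w ∈ orbit G v)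
  · exfalso
    have e1 := (IsPGroup.of_card (p := p) (n := 1) (hG.trans (pow_one p).symm)).card_modEq_card_fixedPoints V
    have e2 : 1 < Nat.card (fixedPoints G V) := Finite.one_lt_card_iff_nontrivial.2
      ⟨⟨v, fun g => (e ▸ Subgroup.mem_top g : g ∈ stabilizer G v)⟩, ⟨0, fun g => smul_zero g⟩,
        fun e => hv (congrArg Subtype.val e)⟩
    have e3 : Nat.card (fixedPoints G V) ≤ p + 1 := hV ▸ Finite.card_subtype_le _
    rw [hV] at e1
    have e4 := Nat.eq_zero_of_dvd_of_lt ((Nat.modEq_iff_dvd' e3).1 e1.symm) (by omega)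
    have e5 : fixedPoints G V = Set.univ := Set.eq_of_subset_of_ncard_le (Set.subset_univ _) (by
      rw [Set.ncard_univ, ← Nat.card_coe_set_eq]; omega)
    have : Subsingleton G := ⟨fun a b => by
      rw [hf a fun v => (e5 ▸ Set.mem_univ v : v ∈ fixedPoints G V) a,
        hf b fun v => (e5 ▸ Set.mem_univ v : v ∈ fixedPoints G V) b]⟩
    exact hp.out.ne_one (hG.symm.trans Nat.card_unique)

theorem affine_struct {p : ℕ} [hp : Fact p.Prime] (hf : ∀ g : G, (∀ v : V, g • v = v) → g = 1)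
    {t : G} {e : ZMod p → V} (he : Function.Injective e) (hr : Set.range e = {v | v ≠ 0})
    (ht : ∀ i, t • e i = e (i + 1)) (hg : ∀ g : G, ∃ c d, ∀ i, g • e i = e (c * i + d)) :
    orderOf t = p ∧ (Subgroup.zpowers t).Normal ∧
      Subgroup.centralizer (Subgroup.zpowers t : Set G) = Subgroup.zpowers t := by
  have ext : ∀ g g' : G, (∀ i, g • e i = g' • e i) → g = g' := fun g g' h => by
    rw [← inv_mul_eq_one]
    refine hf _ fun v => ?_
    by_cases hv : v = 0
    · rw [hv, smul_zero]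
    · obtain ⟨i, rfl⟩ : v ∈ Set.range e := hr ▸ hv
      rw [mul_smul, ← h, inv_smul_smul]
  have pw : ∀ (k : ℕ) i, t ^ k • e i = e (i + k) := fun k i => by
    induction k with
    | zero => simp
    | succ k ik => rw [pow_succ', mul_smul, ik, ht, Nat.cast_succ, add_assoc]
  refine ⟨orderOf_eq_prime (ext _ _ fun i => by simp [pw]) fun h => ?_, ?_, le_antisymm ?_ ?_⟩
  · simpa [h, he.eq_iff] using ht 0
  · refine ⟨?_⟩
    rintro _ ⟨k, rfl⟩ g
    obtain ⟨c, d, h⟩ := hg g
    have : g * t = t ^ c.val * g := ext _ _ fun i => by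
      rw [mul_smul, mul_smul, ht, h, h, pw, ZMod.natCast_zmod_val]; congr 1; ring
    rw [← conj_zpow, this, mul_inv_cancel_right]
    exact zpow_mem (pow_mem (Subgroup.mem_zpowers t) _) _
  · intro g hc
    obtain ⟨c, d, h⟩ := hg g
    have e1 := congrArg (· • e 0) (hc t (Subgroup.mem_zpowers t))
    simp only [mul_smul, ht, h, he.eq_iff] at e1
    obtain rfl : c = 1 := by linear_combination -e1
    rw [ext g (t ^ d.val) fun i => by rw [h, pw, ZMod.natCast_zmod_val, one_mul]]
    exact pow_mem (Subgroup.mem_zpowers t) _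
  · exact Subgroup.le_centralizer _

/-- either all automorphisms are induced, or the induced group has no involution -/
theorem mers_inv (h2 : ∀ v : V, v + v = 0) {p : ℕ} [hp : Fact p.Prime] (hV : Nat.card V = p + 1)
    (tr : ∀ v w : V, v ≠ 0 → w ≠ 0 → ∃ g : G, g • v = w) :
    (∀ φ : V →+ V, Function.Injective φ → ∃ g : G, ∀ v, g • v = φ v) ∨
    ∀ g : G, (∀ v : V, g • g • v = v) → ∀ v : V, g • v = v := by
  refine (mers_dich h2 hV tr).elim Or.inl fun ⟨t, e, he, hr, ht, hg⟩ => ?_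
  by_cases h : ∀ g : G, (∀ v : V, g • g • v = v) → ∀ v : V, g • v = v
  · exact Or.inr h
  push Not at h
  obtain ⟨g, h1, v, hv⟩ := h
  have m0 : g • v + v ≠ 0 := (two_eq h2).not.2 hv
  have m1 : ∀ u : V, g • (g • u + u) = g • u + u := fun u => by rw [smul_add, h1, add_comm]
  have k : ∀ u : V, g • u = u → u ∈ ln1 h2 (g • v + v) := fun u hu => by
    by_contra hc
    rw [mem_ln1, not_or] at hc
    obtain ⟨c, d, h⟩ := hg g
    obtain ⟨i, rfl⟩ : u ∈ Set.range e := hr ▸ hc.1
    obtain ⟨j, hj⟩ : g • v + v ∈ Set.range e := hr ▸ m0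
    obtain ⟨l, rfl⟩ : v ∈ Set.range e := hr ▸ (by rintro rfl; simp at hv : v ≠ 0)
    have e1 := m1 (e l)
    rw [← hj, h, he.eq_iff] at e1
    rw [h, he.eq_iff] at hu
    have e2 : (c - 1) * (i - j) = 0 := by linear_combination hu - e1
    obtain rfl : c = 1 := sub_eq_zero.1 ((mul_eq_zero.1 e2).resolve_right fun e3 =>
      hc.2 (by rw [sub_eq_zero.1 e3, hj]))
    exact hv (by rw [h, show d = 0 by linear_combination hu]; simp)
  have e4 : Nat.card V ≤ 4 := by
    set N := DistribSMul.toAddMonoidHom V g + AddMonoidHom.id V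
    have e1 : N.ker ≤ ln1 h2 (g • v + v) := fun u hu => k u ((two_eq h2).1 hu)
    have e2 : N.range ≤ ln1 h2 (g • v + v) := by
      rintro _ ⟨u, rfl⟩
      exact k _ (m1 u)
    have e3 := Nat.mul_le_mul (AddSubgroup.card_le_of_le e1) (AddSubgroup.card_le_of_le e2)
    rwa [← AddSubgroup.index_ker N, AddSubgroup.card_mul_index, card_ln1 _ m0] at e3
  refine Or.inl (TT.all ⟨h2, fun x y x' y' i i' => ?_⟩ (by omega))
  obtain ⟨a, rfl⟩ := tr x x' i.1 i'.1
  have i2 := i.smul a
  have e5 : a • y ∈ ln2 h2 (a • x) y' := by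
    by_contra hc
    have := two_mul_card_le le_top (AddSubgroup.mem_top _) hc
    rw [card_ln2 _ i', AddSubgroup.card_top] at this
    omega
  rcases e5 with e5 | e5 | e5 | e5
  · exact absurd e5 i2.2.1
  · exact absurd e5 i2.2.2
  · exact ⟨a, rfl, e5⟩
  obtain ⟨b, hb⟩ := tr _ _ m0 i'.1
  refine ⟨b * g * b⁻¹ * a, ?_, ?_⟩
  · rw [mul_smul, mul_smul, mul_smul, ← hb, inv_smul_smul, m1]
  · have e6 : g • b⁻¹ • a • y + b⁻¹ • a • y = g • v + v := by
      refine (k _ (m1 _)).resolve_left fun e6 => ?_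
      rcases k _ ((two_eq h2).1 e6) with e7 | e7
      · exact i2.2.1 ((smul_eq_zero_iff_eq _).1 e7)
      · exact i2.2.2 (by rw [← hb, ← e7, smul_inv_smul])
    have e7 := congrArg (b • ·) e6
    simp only [smul_add, smul_inv_smul] at e7
    rw [← smul_add, hb] at e7
    rw [mul_smul, mul_smul, mul_smul]
    linear_combination (norm := abel1) e7 + e5 + h2 (a • x) - h2 (a • y)

end Cfsg.Agent.AF
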