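import Mathlib

/-!
# Dual pairs of elementary abelian 2-groups, a Fourier lemma, induced actions
-/

set_option autoImplicit false
set_option linter.unusedSectionVars false

namespace Cfsg.Agent.AF

open Finset

variable {W W' : Type*} [AddCommGroup W] [AddCommGroup W']

theorem z2_ne {a b : ZMod 2} (h : a ≠ b) : a + b = 1 := by revert a b; decide
theorem z2_one {a : ZMod 2} (h : a ≠ 0) : a = 1 := by revert a; decide
theorem z2_zero {a : ZMod 2} (h : a ≠ 1) : a = 0 := by revert a; decide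
theorem z2_cases (a : ZMod 2) : a = 0 ∨ a = 1 := by revert a; decide
theorem z2_two (a : ZMod 2) : a + a = 0 := by revert a; decide

/-- perfect pairing into `ZMod 2` -/
structure Pr (b : W →+ W' →+ ZMod 2) : Prop where
  sepL : ∀ (U : AddSubgroup W) (v : W), v ∉ U → ∃ l, (∀ u ∈ U, b u l = 0) ∧ b v l = 1
  sepR : ∀ (U : AddSubgroup W') (l : W'), l ∉ U → ∃ v, (∀ u ∈ U, b v u = 0) ∧ b v l = 1
  card : Nat.card W = Nat.card W'

variable {b : W →+ W' →+ ZMod 2}

theorem Pr.flip (h : Pr b) : Pr b.flip := ⟨h.sepR, h.sepL, h.card.symm⟩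

theorem Pr.exists_one (h : Pr b) {v : W} (hv : v ≠ 0) : ∃ l, b v l = 1 :=
  let ⟨l, _, hl⟩ := h.sepL ⊥ v (by simpa using hv); ⟨l, hl⟩

theorem Pr.two (h : Pr b) (v : W) : v + v = 0 := by
  by_contra hv
  obtain ⟨l, hl⟩ := h.exists_one hv
  rw [map_add, AddMonoidHom.add_apply, z2_two] at hl
  exact zero_ne_one hl

/-- the subgroup `{0, x}` -/
def ln1 (h2 : ∀ v : W, v + v = 0) (x : W) : AddSubgroup W where
  carrier := {u | u = 0 ∨ u = x}
  zero_mem' := Or.inl rfl
  add_mem' := by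
    rintro a c (rfl | rfl) (rfl | rfl) <;> simp [h2]
  neg_mem' := by
    rintro a (rfl | rfl)
    · simp
    · exact Or.inr (neg_eq_of_add_eq_zero_left (h2 _))

/-- the subgroup `{0, x, y, x + y}` -/
def ln2 (h2 : ∀ v : W, v + v = 0) (x y : W) : AddSubgroup W where
  carrier := {u | u = 0 ∨ u = x ∨ u = y ∨ u = x + y}
  zero_mem' := Or.inl rfl
  add_mem' := by
    intro a c ha hc
    have := h2 x; have := h2 y
    simp only [Set.mem_ofPred_eq] at *
    grind
  neg_mem' := by
    intro a ha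
    rwa [neg_eq_of_add_eq_zero_left (h2 a)]

theorem Pr.sep1 (h : Pr b) {v x : W} (h0 : v ≠ 0) (h1 : v ≠ x) : ∃ l, b x l = 0 ∧ b v l = 1 := by
  obtain ⟨l, hl, hl'⟩ := h.sepL (ln1 h.two x) v (by rintro (e | e); exacts [h0 e, h1 e])
  exact ⟨l, hl x (Or.inr rfl), hl'⟩

theorem Pr.sep2 (h : Pr b) {v x y : W} (h0 : v ≠ 0) (h1 : v ≠ x) (h2 : v ≠ y) (h3 : v ≠ x + y) :
    ∃ l, b x l = 0 ∧ b y l = 0 ∧ b v l = 1 := by
  obtain ⟨l, hl, hl'⟩ := h.sepL (ln2 h.two x y) v
    (by rintro (e | e | e | e); exacts [h0 e, h1 e, h2 e, h3 e])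
  exact ⟨l, hl x (by simp [ln2]), hl y (by simp [ln2]), hl'⟩

/-- two functionals nonzero on a subgroup take the value `1` at a common point -/
theorem exists_both {U : AddSubgroup W} {f g : W →+ ZMod 2} {u v : W} (hu : u ∈ U) (hv : v ∈ U)
    (h1 : f u = 1) (h2 : g v = 1) : ∃ m ∈ U, f m = 1 ∧ g m = 1 := by
  rcases z2_cases (g u) with h3 | h3
  · rcases z2_cases (f v) with h4 | h4
    · exact ⟨u + v, add_mem hu hv, by simp [h1, h4], by simp [h2, h3]⟩
    · exact ⟨v, hv, h4, h2⟩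
  · exact ⟨u, hu, h1, h3⟩

/-- sign character -/
def sg (a : ZMod 2) : ℤ := if a = 0 then 1 else -1

theorem sg_add (a c : ZMod 2) : sg (a + c) = sg a * sg c := by revert a c; decide
theorem sg_one : sg 1 = -1 := by decide

theorem Pr.sum_sg [Fintype W'] [DecidableEq W] (h : Pr b) (t : W) :
    ∑ l, sg (b t l) = if t = 0 then (Fintype.card W' : ℤ) else 0 := by
  split_ifs with ht
  · simp [ht, sg]
  · obtain ⟨m, hm⟩ := h.exists_one ht
    have := Equiv.sum_comp (Equiv.addRight m) (fun l => sg (b t l))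
    simp only [Equiv.coe_addRight, map_add, hm, sg_add, sg_one, mul_neg, mul_one,
      sum_neg_distrib] at this
    omega

variable {K : Type*} [Group K] [DistribMulAction K W] [DistribMulAction K W']

/-- The Fourier lemma. -/
theorem Pr.exists_smul [Finite W] [Finite W'] (h : Pr b)
    (inv : ∀ (g : K) w l, b (g • w) (g • l) = b w l) (Y : Subgroup K) {v v' : W} {m : W'}
    (h1 : b v m = 1) (h1' : b v' m = 1)
    (H : ∀ l, b v l ≠ b v' l → ∃ g ∈ Y, g • l = l + m) : ∃ g ∈ Y, g • v = v' := by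
  classical
  have := Fintype.ofFinite W
  have := Fintype.ofFinite W'
  let f : W → ℤ := fun w => if ∃ g ∈ Y, g • v = w then 1 else 0
  let F : W' → ℤ := fun l => ∑ w, f w * sg (b w l)
  have hf : ∀ g ∈ Y, ∀ w, f (g • w) = f w := fun g hg w => by
    refine if_congr ⟨fun ⟨k, hk, e⟩ => ⟨g⁻¹ * k, mul_mem (inv_mem hg) hk, ?_⟩,
      fun ⟨k, hk, e⟩ => ⟨g * k, mul_mem hg hk, ?_⟩⟩ rfl rfl
    · rw [mul_smul, e, inv_smul_smul]
    · rw [mul_smul, e]
  have hF : ∀ g ∈ Y, ∀ l, F (g • l) = F l := fun g hg l => by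
    have := Equiv.sum_comp (MulAction.toPerm g) (fun w => f w * sg (b w (g • l)))
    simp only [MulAction.toPerm_apply, inv, hf g hg] at this
    exact this.symm
  have inv' : ∀ u, ∑ l, F l * sg (b u l) = Fintype.card W' * f u := fun u => by
    simp only [F, sum_mul]
    rw [sum_comm]
    have : ∀ w, ∑ l, f w * sg (b w l) * sg (b u l) = if w = u then Fintype.card W' * f u else 0 := by
      intro w
      simp only [mul_assoc, ← sg_add, ← mul_sum, ← AddMonoidHom.add_apply, ← map_add]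
      rw [h.sum_sg]
      have := h.two u
      by_cases e : w = u
      · simp [e, this, mul_comm]
      · rw [if_neg e, if_neg (by grind), mul_zero]
    simp [this]
  have key : ∑ l, F l * (sg (b v l) - sg (b v' l)) = 0 := by
    have e := Equiv.sum_comp (Equiv.addRight m) (fun l => F l * (sg (b v l) - sg (b v' l)))
    have e' : ∀ l, F (l + m) * (sg (b v (l + m)) - sg (b v' (l + m))) =
        -(F l * (sg (b v l) - sg (b v' l))) := fun l => by
      by_cases hl : b v l = b v' l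
      · simp [hl, h1, h1']
      · obtain ⟨g, hg, e⟩ := H l hl
        rw [← e, hF g hg, e]
        simp only [map_add, h1, h1', sg_add, sg_one]
        ring
    simp only [Equiv.coe_addRight, e', sum_neg_distrib] at e
    omega
  simp only [mul_sub, sum_sub_distrib, inv'] at key
  have h3 : f v = 1 := if_pos ⟨1, one_mem _, one_smul _ _⟩
  have h4 : f v' = 1 := by
    have : (0 : ℤ) < Fintype.card W' := by exact_mod_cast Fintype.card_pos
    rw [h3] at key
    nlinarith
  by_contra h5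
  rw [show f v' = 0 from if_neg h5] at h4
  exact zero_ne_one h4

/-! ### counting -/

theorem ncard_fiber [Finite W] (A : AddSubgroup W) (f : W →+ ZMod 2) {a : W} (ha : a ∈ A)
    (h : f a = 1) (c : ZMod 2) : 2 * {u | u ∈ A ∧ f u = c}.ncard = Nat.card A := by
  have e : ∀ c, {u | u ∈ A ∧ f u = c + 1}.ncard ≤ {u | u ∈ A ∧ f u = c}.ncard := fun c =>
    Set.ncard_le_ncard_of_injOn (· + a) (fun u hu => ⟨add_mem hu.1 ha, by
      rw [map_add, hu.2, h, add_assoc, z2_two, add_zero]⟩) (fun _ _ _ _ e => add_right_cancel e)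
  have e1 := e c
  have e2 := e (c + 1)
  rw [add_assoc, z2_two, add_zero] at e2
  have e3 : (A : Set W) = {u | u ∈ A ∧ f u = c} ∪ {u | u ∈ A ∧ f u = c + 1} := by
    ext u
    have : ∀ a c : ZMod 2, a = c ∨ a = c + 1 := by decide
    simp only [SetLike.mem_coe, Set.mem_union, Set.mem_ofPred_eq]
    exact ⟨fun hu => (this (f u) c).imp (⟨hu, ·⟩) (⟨hu, ·⟩), fun hu => hu.elim (·.1) (·.1)⟩
  have e4 : Disjoint {u | u ∈ A ∧ f u = c} {u | u ∈ A ∧ f u = c + 1} :=
    Set.disjoint_left.2 fun u h1 h2 => by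
      have : ∀ c : ZMod 2, c ≠ c + 1 := by decide
      exact this c (h1.2.symm.trans h2.2)
  have e5 := Set.ncard_union_eq e4
  rw [← e3] at e5
  rw [← SetLike.coe_sort_coe, Nat.card_coe_set_eq]
  omega

theorem isPGroup_two (h2 : ∀ v : W, v + v = 0) : IsPGroup 2 (Multiplicative W) := fun g =>
  ⟨1, by rw [pow_one, pow_two]; exact h2 g.toAdd⟩

theorem card_pow [Finite W] (h2 : ∀ v : W, v + v = 0) : ∃ n, Nat.card W = 2 ^ n :=
  (IsPGroup.iff_card (G := Multiplicative W)).1 (isPGroup_two h2)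

theorem card_sub_pow [Finite W] (h2 : ∀ v : W, v + v = 0) (A : AddSubgroup W) :
    ∃ n, Nat.card A = 2 ^ n := card_pow fun v => Subtype.ext (h2 v)

theorem ncard_fiber_pow [Finite W] (h2 : ∀ v : W, v + v = 0) (A : AddSubgroup W) (f : W →+ ZMod 2)
    {a : W} (ha : a ∈ A) (h : f a = 1) (c : ZMod 2) :
    ∃ k, {u | u ∈ A ∧ f u = c}.ncard = 2 ^ k := by
  obtain ⟨n, hn⟩ := card_sub_pow h2 A
  obtain ⟨k, -, hk⟩ := (Nat.dvd_prime_pow Nat.prime_two).1
    (hn ▸ Dvd.intro_left 2 (ncard_fiber A f ha h c))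
  exact ⟨k, hk⟩

/-! ### Sylow subgroups -/

theorem exists_mul_of_coprime {G : Type*} [Group G] [Finite G] {H L : Subgroup G}
    (h : H.index.Coprime L.index) (g : G) : ∃ a ∈ H, ∃ c ∈ L, g = a * c := by
  have h1 : MulAction.stabilizer H ((1 : G) : G ⧸ L) = L.subgroupOf H := by
    ext x
    rw [MulAction.mem_stabilizer_iff, Subgroup.mem_subgroupOf]
    change (((x : G) * 1 : G) : G ⧸ L) = _ ↔ _
    rw [mul_one, QuotientGroup.eq, mul_one, inv_mem_iff]
  have h2 := MulAction.index_stabilizer H ((1 : G) : G ⧸ L)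
  rw [h1] at h2
  have h3 : L.index ∣ L.relIndex H := by
    refine h.symm.dvd_of_dvd_mul_right ?_
    rw [← Subgroup.inf_relIndex_right, Subgroup.relIndex_mul_index inf_le_right]
    exact Subgroup.index_dvd_of_le inf_le_left
  have h4 : MulAction.orbit H ((1 : G) : G ⧸ L) = Set.univ := by
    refine Set.eq_of_subset_of_ncard_le (Set.subset_univ _) ?_
    rw [Set.ncard_univ, ← h2]
    exact Nat.le_of_dvd (Nat.pos_of_ne_zero Subgroup.index_ne_zero_of_finite) h3
  obtain ⟨a, ha⟩ : (g : G ⧸ L) ∈ MulAction.orbit H ((1 : G) : G ⧸ L) := h4 ▸ Set.mem_univ _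
  change (((a : G) * 1 : G) : G ⧸ L) = _ at ha
  rw [mul_one, QuotientGroup.eq] at ha
  exact ⟨a, a.2, _, ha, by group⟩

theorem exists_syl [Finite K] (Y : Subgroup K) :
    ∃ T ≤ Y, IsPGroup 2 T ∧ ¬ 2 ∣ T.relIndex Y := by
  obtain ⟨P⟩ : Nonempty (Sylow 2 Y) := inferInstance
  refine ⟨(P : Subgroup Y).map Y.subtype, Subgroup.map_subtype_le _, P.isPGroup'.map _, ?_⟩
  rw [Subgroup.relIndex, Subgroup.subgroupOf, Subgroup.comap_map_eq_self_of_injective
    Y.subtype_injective]
  exact P.not_dvd_index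

theorem relIndex_stab {X : Type*} [MulAction K X] (Y : Subgroup K) (a : X) :
    (MulAction.stabilizer K a).relIndex Y = {a' | ∃ g ∈ Y, g • a = a'}.ncard := by
  have := MulAction.index_stabilizer Y a
  rw [show MulAction.stabilizer Y a = (MulAction.stabilizer K a).subgroupOf Y from rfl] at this
  rw [Subgroup.relIndex, this]
  congr 1
  ext a'
  exact ⟨fun ⟨g, e⟩ => ⟨g, g.2, e⟩, fun ⟨g, hg, e⟩ => ⟨⟨g, hg⟩, e⟩⟩

/-- a subgroup of odd index is transitive on an orbit of 2-power length -/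
theorem trans_of_odd [Finite K] {X : Type*} [MulAction K X] {T Y : Subgroup K}
    (ho : ¬ 2 ∣ T.relIndex Y) {a : X} {k : ℕ} (hk : {a' | ∃ g ∈ Y, g • a = a'}.ncard = 2 ^ k)
    {g : K} (hg : g ∈ Y) : ∃ t ∈ T, t • a = g • a := by
  rw [← relIndex_stab] at hk
  obtain ⟨t, ht, s, hs, e⟩ := exists_mul_of_coprime (H := T.subgroupOf Y)
    (L := (MulAction.stabilizer K a).subgroupOf Y) (by
      rw [show ((MulAction.stabilizer K a).subgroupOf Y).index = 2 ^ k from hk]
      exact ((Nat.Prime.coprime_iff_not_dvd Nat.prime_two).2 ho).symm.pow_right k) ⟨g, hg⟩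
  refine ⟨t, ht, ?_⟩
  have e' : g = t * s := congrArg Subtype.val e
  rw [e', mul_smul, show (s : K) • a = a from hs]

/-! ### induced actions -/

/-- action on a quotient -/
@[reducible] def quotAct (A : AddSubgroup W) (hA : ∀ g : K, ∀ a ∈ A, g • a ∈ A) :
    DistribMulAction K (W ⧸ A) where
  smul g := QuotientAddGroup.map A A (DistribSMul.toAddMonoidHom W g) (hA g)
  one_smul := by
    rintro ⟨v⟩
    exact congrArg QuotientAddGroup.mk (one_smul K v)
  mul_smul := by
    rintro g k ⟨v⟩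
    exact congrArg QuotientAddGroup.mk (mul_smul g k v)
  smul_zero g := map_zero (QuotientAddGroup.map A A (DistribSMul.toAddMonoidHom W g) (hA g))
  smul_add g := map_add (QuotientAddGroup.map A A (DistribSMul.toAddMonoidHom W g) (hA g))

/-- action on a subgroup -/
@[reducible] def subAct (A : AddSubgroup W) (hA : ∀ g : K, ∀ a ∈ A, g • a ∈ A) :
    DistribMulAction K A where
  smul g a := ⟨g • (a : W), hA g a a.2⟩
  one_smul a := Subtype.ext (one_smul K (a : W))
  mul_smul g k a := Subtype.ext (mul_smul g k (a : W))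
  smul_zero g := Subtype.ext (smul_zero g)
  smul_add g a c := Subtype.ext (smul_add g (a : W) c)

theorem two_quot (h2 : ∀ v : W, v + v = 0) (A : AddSubgroup W) (v : W ⧸ A) : v + v = 0 := by
  obtain ⟨v, rfl⟩ := QuotientAddGroup.mk_surjective v
  rw [← QuotientAddGroup.mk_add, h2]; rfl

theorem mk_eq_mk (h2 : ∀ v : W, v + v = 0) {A : AddSubgroup W} {u v : W} :
    (u : W ⧸ A) = v ↔ u + v ∈ A := by
  rw [QuotientAddGroup.eq, neg_eq_of_add_eq_zero_left (h2 u)]

theorem exists_fixed [Finite W] (h2 : ∀ v : W, v + v = 0) (hK : IsPGroup 2 K) [Nontrivial W] :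
    ∃ u : W, u ≠ 0 ∧ ∀ t : K, t • u = u := by
  obtain ⟨n, hn, hc⟩ := (isPGroup_two h2).nontrivial_iff_card.1 inferInstance
  obtain ⟨u, hu, h0⟩ := hK.exists_fixed_point_of_prime_dvd_card_of_fixed_point W
    (by rw [show Nat.card W = 2 ^ n from hc]; exact dvd_pow_self 2 hn.ne')
    (a := 0) (fun t => smul_zero t)
  exact ⟨u, h0.symm, hu⟩

theorem exists_fixed_mod [Finite W] (h2 : ∀ v : W, v + v = 0) {T : Subgroup K} (hT : IsPGroup 2 T)
    (A : AddSubgroup W) (hA : ∀ g ∈ T, ∀ a ∈ A, g • a ∈ A) {v : W} (hv : v ∉ A) :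
    ∃ u ∉ A, ∀ t ∈ T, t • u + u ∈ A := by
  letI := quotAct (K := T) A fun g => hA g g.2
  have : Nontrivial (W ⧸ A) := ⟨v, 0, fun e => hv ((QuotientAddGroup.eq_zero_iff v).1 e)⟩
  obtain ⟨u, h0, hu⟩ := exists_fixed (two_quot h2 A) hT
  obtain ⟨u, rfl⟩ := QuotientAddGroup.mk_surjective u
  exact ⟨u, fun e => h0 ((QuotientAddGroup.eq_zero_iff u).2 e),
    fun t ht => (mk_eq_mk h2).1 (hu ⟨t, ht⟩)⟩

/-! ### the canonical dual -/

/-- dual group -/
def Du (W : Type*) [AddCommGroup W] := W →+ ZMod 2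

instance duAddCommGroup : AddCommGroup (Du W) := inferInstanceAs (AddCommGroup (W →+ ZMod 2))
instance duFinite [Finite W] : Finite (Du W) :=
  Finite.of_injective (α := W →+ ZMod 2) (fun l => (l : W → ZMod 2)) DFunLike.coe_injective

instance duAct : DistribMulAction K (Du W) where
  smul g l := AddMonoidHom.comp l (DistribSMul.toAddMonoidHom W g⁻¹)
  one_smul l := AddMonoidHom.ext fun v => congrArg (show W →+ ZMod 2 from l)
    (show (1 : K)⁻¹ • v = v by simp)
  mul_smul g k l := AddMonoidHom.ext fun v => congrArg (show W →+ ZMod 2 from l)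
    (show (g * k)⁻¹ • v = k⁻¹ • g⁻¹ • v by simp [mul_smul])
  smul_zero _ := rfl
  smul_add _ _ _ := rfl

/-- evaluation pairing -/
def ev (W : Type*) [AddCommGroup W] : W →+ Du W →+ ZMod 2 := AddMonoidHom.eval

theorem ev_inv (g : K) (w : W) (l : Du W) : ev W (g • w) (g • l) = ev W w l :=
  congrArg (show W →+ ZMod 2 from l) (inv_smul_smul g w)

theorem exists_dual (h2 : ∀ v : W, v + v = 0) (U : AddSubgroup W) {v : W} (hv : v ∉ U) :
    ∃ l : W →+ ZMod 2, (∀ u ∈ U, l u = 0) ∧ l v = 1 := by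
  letI : Module (ZMod 2) W := AddCommGroup.zmodModule fun x => by rw [two_nsmul, h2]
  obtain ⟨f, hf, hU⟩ := Submodule.exists_dual_map_eq_bot_of_notMem
    (p := AddSubgroup.toZModSubmodule 2 U) (x := v) hv inferInstance
  refine ⟨f.toAddMonoidHom, fun u hu => ?_, z2_one hf⟩
  have : f u ∈ (AddSubgroup.toZModSubmodule 2 U).map f := ⟨u, hu, rfl⟩
  rwa [hU] at this

theorem card_du [Finite W] (h2 : ∀ v : W, v + v = 0) : Nat.card (Du W) = Nat.card W := by
  letI : Module (ZMod 2) W := AddCommGroup.zmodModule fun x => by rw [two_nsmul, h2]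
  have e : Du W ≃ Module.Dual (ZMod 2) W := (AddMonoidHom.toZModLinearMapEquiv 2).toEquiv
  have := Finite.of_equiv _ e
  rw [Nat.card_congr e, Module.natCard_eq_pow_finrank (K := ZMod 2),
    Module.natCard_eq_pow_finrank (K := ZMod 2) (V := W), Subspace.dual_finrank_eq]

theorem two_du (l : Du W) : l + l = 0 := AddMonoidHom.ext fun _ => z2_two _

theorem pr_ev [Finite W] (h2 : ∀ v : W, v + v = 0) : Pr (ev W) where
  sepL U _ hv := exists_dual h2 U hv
  sepR U l hl := by
    obtain ⟨L, hL, h1⟩ := exists_dual two_du U hl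
    let φ : W → Du (Du W) := fun v => ev W v
    have hi : Function.Injective φ :=
      (injective_iff_map_eq_zero (ev W)).2 fun v hv => by
        by_contra h0
        obtain ⟨m, -, hm⟩ := exists_dual h2 ⊥ (v := v) (by simpa using h0)
        have : ev W v m = 0 := by rw [hv]; rfl
        exact zero_ne_one (this.symm.trans hm)
    obtain ⟨v, hv⟩ := ((Nat.bijective_iff_injective_and_card φ).2
      ⟨hi, by rw [card_du two_du, card_du h2]⟩).2 L
    have hv' : ev W v = L := hv
    exact ⟨v, by rw [hv']; exact hL, by rw [hv']; exact h1⟩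
  card := (card_du h2).symm

end Cfsg.Agent.AF
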