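import Cfsg.Agent.Lib.AF.Pair

/-!
# Spreads over the field with two elements
-/

set_option autoImplicit false
set_option linter.unusedSectionVars false

namespace Cfsg.Agent.AF

open Finset AddSubgroup

variable {W : Type*} [AddCommGroup W] [Finite W]

theorem card_mul_rel {A B : AddSubgroup W} (h : A ≤ B) :
    Nat.card A * A.relIndex B = Nat.card B := by
  rw [← relIndex_bot_left, ← relIndex_bot_left, relIndex_mul_relIndex _ _ _ bot_le h]

theorem card_sup_inf (A B : AddSubgroup W) :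
    Nat.card ↥(A ⊔ B) * Nat.card ↥(A ⊓ B) = Nat.card A * Nat.card B := by
  rw [← card_mul_rel (le_sup_right : B ≤ A ⊔ B), relIndex_sup_right,
    ← card_mul_rel (inf_le_left : A ⊓ B ≤ A), inf_relIndex_left]
  ring

theorem card_sup_of (A B : AddSubgroup W) (h : ∀ a ∈ A, a ∈ B → a = 0) :
    Nat.card ↥(A ⊔ B) = Nat.card A * Nat.card B := by
  rw [← card_sup_inf, (eq_bot_iff_forall (A ⊓ B)).2 fun a ha => h a ha.1 ha.2, card_bot, mul_one]

/-- a proper subgroup of an elementary abelian 2-group has at most half of the elements -/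
theorem two_mul_card_le {A B : AddSubgroup W} (h : A ≤ B) {v : W} (hv : v ∈ B) (hv' : v ∉ A) :
    2 * Nat.card A ≤ Nat.card B := by
  rw [← card_mul_rel h, mul_comm]
  have h1 : A.relIndex B ≠ 1 := fun e => hv' (relIndex_eq_one.1 e hv)
  have h2 : A.relIndex B ≠ 0 := index_ne_zero_of_finite
  exact Nat.mul_le_mul_left _ (by omega)

theorem ncard_le_four {α : Type*} (a b c d : α) : ({a, b, c, d} : Set α).ncard ≤ 4 := by
  have h1 := Set.ncard_insert_le a {b, c, d}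
  have h2 := Set.ncard_insert_le b {c, d}
  have h3 := Set.ncard_insert_le c {d}
  rw [Set.ncard_singleton] at h3
  omega

theorem two_eq (h2 : ∀ v : W, v + v = 0) {a b : W} : a + b = 0 ↔ a = b := by
  rw [add_eq_zero_iff_eq_neg, neg_eq_of_add_eq_zero_left (h2 b)]

/-- scalar multiple -/
def sm (a : ZMod 2) (c : W) : W := if a = 0 then 0 else c

@[simp] theorem sm_zero (c : W) : sm 0 c = 0 := rfl
@[simp] theorem sm_one (c : W) : sm 1 c = c := rfl
@[simp] theorem sm_zero' (a : ZMod 2) : sm a (0 : W) = 0 := ite_self _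

theorem sm_add (h2 : ∀ v : W, v + v = 0) (a a' : ZMod 2) (c : W) :
    sm (a + a') c = sm a c + sm a' c := by
  rcases z2_cases a with rfl | rfl <;> rcases z2_cases a' with rfl | rfl <;> simp [h2, z2_two]

theorem exists_sm (h2 : ∀ v : W, v + v = 0) {W' : Type*} [AddCommGroup W'] (f : W' → W)
    (hf : ∀ u v, f (u + v) = f u + f v) {c : W} (h : ∀ v, f v = 0 ∨ f v = c) :
    ∃ l : W' →+ ZMod 2, ∀ v, f v = sm (l v) c := by
  classical
  refine ⟨AddMonoidHom.mk' (fun v => if f v = 0 then 0 else 1) fun u v => ?_, fun v => ?_⟩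
  · have := h u; have := h v; have := hf u v; have := h2 c
    by_cases h1 : f u = 0 <;> by_cases h3 : f v = 0 <;> simp only [h1, h3, if_true, if_false] <;>
      [rw [if_pos (by grind)]; rw [if_neg (by grind)]; rw [if_neg (by grind)];
        rw [if_pos (by grind)]] <;> rfl
  · by_cases h1 : f v = 0
    · simp [h1]
    · simp only [AddMonoidHom.mk'_apply, h1, if_false]
      exact (h v).resolve_left h1

/-- a normal spread of lines has an isotropic member -/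
theorem false_of_lines (h2 : ∀ v : W, v + v = 0) (A : AddSubgroup W) (Y : W → AddSubgroup W)
    (β : W → W → ZMod 2)
    (hY : ∀ x ∈ A, x ≠ 0 → ∃ y ∈ A, y ≠ 0 ∧ y ≠ x ∧ Y x = ln2 h2 x y)
    (blk : ∀ x ∈ A, x ≠ 0 → ∀ y ∈ Y x, y ≠ 0 → Y y = Y x)
    (sub : ∀ x ∈ A, ∀ y ∈ A, x ≠ 0 → y ≠ 0 → x + y ≠ 0 → Y (x + y) ≤ Y x ⊔ Y y)
    (β1 : ∀ x ∈ A, ∀ y ∈ A, ∀ z ∈ A, β x (y + z) = β x y + β x z)
    (β2 : ∀ x ∈ A, ∀ y ∈ A, β x y = β y x)
    (β3 : ∀ x ∈ A, x ≠ 0 → ∀ y ∈ Y x, y ≠ 0 → y ≠ x → β x y = 1)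
    {e1 e3 : W} (a1 : e1 ∈ A) (a3 : e3 ∈ A) (h1 : e1 ≠ 0) (h3 : e3 ∉ Y e1) : False := by
  have h30 : e3 ≠ 0 := fun e => h3 (e ▸ zero_mem _)
  obtain ⟨e2, a2, b1, b2, b3⟩ := hY e1 a1 h1
  obtain ⟨e4, a4, c1, c2, c3⟩ := hY e3 a3 h30
  have self : ∀ x ∈ A, x ≠ 0 → x ∈ Y x := fun x hx h0 => by
    obtain ⟨y, -, -, -, e⟩ := hY x hx h0
    rw [e]; simp [ln2]
  have YA : ∀ x ∈ A, x ≠ 0 → Y x ≤ A := fun x hx h0 => by
    obtain ⟨y, hy, -, -, e⟩ := hY x hx h0
    rw [e]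
    rintro _ (rfl | rfl | rfl | rfl)
    exacts [zero_mem _, hx, hy, add_mem hx hy]
  have dis : ∀ x ∈ A, ∀ y ∈ A, x ≠ 0 → y ≠ 0 → y ∉ Y x → ∀ t ∈ Y x, t ∈ Y y → t = 0 :=
    fun x hx y hy x0 y0 hn t h h' => by
      by_contra t0
      exact hn (by rw [← blk x hx x0 t h t0, blk y hy y0 t h' t0]; exact self y hy y0)
  have m1 := self e1 a1 h1
  have m2 : e2 ∈ Y e1 := by rw [b3]; simp [ln2]
  have key : ∀ u ∈ Y e3, u ≠ 0 → ∃ q ∈ Y e3, q ≠ 0 ∧ q ≠ u ∧ e2 + q ∈ Y (e1 + u) := by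
    intro u hu u0
    have ua := YA e3 a3 h30 hu
    have n1 : e1 + u ∉ Y e1 := fun h => u0 (dis e1 a1 e3 a3 h1 h30 h3 u
      ((add_mem_cancel_left m1).1 h) hu)
    have n0 : e1 + u ≠ 0 := fun e => n1 (e ▸ zero_mem _)
    have n3 : e1 + u ∉ Y e3 := fun h => h1 (dis e1 a1 e3 a3 h1 h30 h3 e1 m1
      ((add_mem_cancel_right hu).1 h))
    have d1 := dis e1 a1 _ (add_mem a1 ua) h1 n0 n1
    have d3 := dis e3 a3 _ (add_mem a1 ua) h30 n0 n3
    have s := self _ (add_mem a1 ua) n0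
    obtain ⟨t, -, t0, t1, ht⟩ := hY _ (add_mem a1 ua) n0
    have ht' : t ∈ Y (e1 + u) := by rw [ht]; simp [ln2]
    obtain ⟨p, hp, q, hq, rfl⟩ := mem_sup.1 (sub e1 a1 u ua h1 u0 n0 ht')
    rw [blk e3 a3 h30 u hu u0] at hq
    have := h2 e1; have := h2 e2; have := h2 u; have := h2 q
    have fin : ∀ q ∈ Y e3, e2 + q ∈ Y (e1 + u) → q ≠ 0 ∧ q ≠ u ∧ e2 + q ∈ Y (e1 + u) :=
      fun q hq h => ⟨fun e => b1 (d1 _ m2 (by simpa [e] using h)), fun e => by
        have := d1 _ (add_mem m1 m2) (by convert add_mem s h using 1; grind)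
        grind, h⟩
    rw [b3] at hp
    rcases hp with rfl | rfl | rfl | rfl
    · exact absurd (d3 _ (by simpa using hq) ht') t0
    · have := d3 _ (add_mem hq hu) (by convert add_mem s ht' using 1; grind)
      grind
    · exact ⟨q, hq, fin q hq ht'⟩
    · exact ⟨q + u, add_mem hq hu, fin _ (add_mem hq hu) (by convert add_mem s ht' using 1; grind)⟩
  have key2 : ∀ u ∈ Y e3, u ≠ 0 → ∀ q ∈ Y e3, q ≠ 0 → q ≠ u → e2 + q ∈ Y (e1 + u) →
      β e1 q + β e2 u = 1 ∧ ∀ u' ∈ Y e3, e2 + q ∈ Y (e1 + u') → u' ≠ 0 → u' = u := by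
    intro u hu u0 q hq q0 q1 h
    have ua := YA e3 a3 h30 hu
    have qa := YA e3 a3 h30 hq
    have := h2 e1; have := h2 e2; have := h2 u; have := h2 q
    have d := dis e1 a1 e3 a3 h1 h30 h3
    have n0 : ∀ u ∈ Y e3, e1 + u ≠ 0 := fun u hu e => h1 (d e1 m1 (by
      rw [eq_neg_of_add_eq_zero_left e]; exact neg_mem hu))
    have n1 : e2 + q ≠ 0 := fun e => b1 (d e2 m2 (by convert hq using 1; grind))
    have n2 : e2 + q ≠ e1 + u := fun e => by
      have := d _ (add_mem m1 m2) (by convert add_mem hq hu using 1; grind)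
      grind
    refine ⟨?_, fun u' hu' h' u0' => ?_⟩
    · have e := β3 _ (add_mem a1 ua) (n0 u hu) _ h n1 n2
      rw [β1 _ (add_mem a1 ua) _ a2 _ qa, β2 _ (add_mem a1 ua) _ a2, β2 _ (add_mem a1 ua) _ qa,
        β1 _ a2 _ a1 _ ua, β1 _ qa _ a1 _ ua, β2 _ a2 _ a1, β3 e1 a1 h1 e2 m2 b1 b2, β2 _ qa _ a1,
        β2 _ qa _ ua, β3 u ua u0 q (by rwa [blk e3 a3 h30 u hu u0]) q0 q1] at e
      linear_combination e - z2_two 1
    · have ua' := YA e3 a3 h30 hu'
      have e : Y (e1 + u') = Y (e1 + u) := by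
        rw [← blk _ (add_mem a1 ua) (n0 u hu) _ h n1, blk _ (add_mem a1 ua') (n0 u' hu') _ h' n1]
      have n3 : e1 + u ∉ Y e3 := fun h => h1 (d e1 m1 ((add_mem_cancel_right hu).1 h))
      have := dis e3 a3 _ (add_mem a1 ua) h30 (n0 u hu) n3 _ (add_mem hu hu') (by
        convert add_mem (self _ (add_mem a1 ua) (n0 u hu))
          (e ▸ self _ (add_mem a1 ua') (n0 u' hu')) using 1; grind)
      grind
  have m3 := self e3 a3 h30
  have m4 : e4 ∈ Y e3 := by rw [c3]; simp [ln2]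
  have := h2 e3; have := h2 e4
  obtain ⟨q1, p1, p2, p3, p4⟩ := key e3 m3 h30
  obtain ⟨q2, r1, r2, r3, r4⟩ := key e4 m4 c1
  obtain ⟨q3, s1, s2, s3, s4⟩ := key (e3 + e4) (add_mem m3 m4) (by grind)
  obtain ⟨k1, k1'⟩ := key2 e3 m3 h30 q1 p1 p2 p3 p4
  obtain ⟨k2, k2'⟩ := key2 e4 m4 c1 q2 r1 r2 r3 r4
  obtain ⟨k3, -⟩ := key2 _ (add_mem m3 m4) (by grind) q3 s1 s2 s3 s4
  have n12 : q2 ≠ q1 := fun e => c2 (k1' e4 m4 (e ▸ r4) c1)
  have n13 : q3 ≠ q1 := fun e => by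
    have := k1' _ (add_mem m3 m4) (e ▸ s4) (by grind)
    grind
  have n23 : q3 ≠ q2 := fun e => by
    have := k2' _ (add_mem m3 m4) (e ▸ s4) (by grind)
    grind
  have e : q3 = q1 + q2 := by
    rw [c3] at p1 r1 s1
    rcases p1 with p | p | p | p <;> rcases r1 with r | r | r | r <;>
      rcases s1 with s | s | s | s <;> grind
  rw [e, β1 _ a1 _ (YA e3 a3 h30 p1) _ (YA e3 a3 h30 r1), β1 _ a2 _ a3 _ a4] at k3
  have : (1 : ZMod 2) = 0 := by linear_combination k1 + k2 - k3 + z2_two 1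
  exact zero_ne_one this.symm

variable {K : Type*} [Group K] [DistribMulAction K W]

/-- no transvection on a member of order at least 8 of a normal spread -/
theorem false_of_blocks (h2 : ∀ v : W, v + v = 0) (S : W → AddSubgroup W) (self : ∀ w, w ∈ S w)
    (blk : ∀ w ≠ 0, ∀ y ∈ S w, y ≠ 0 → S y = S w)
    (crd : ∀ w ≠ 0, ∀ w' ≠ 0, Nat.card (S w) = Nat.card (S w'))
    (sub : ∀ w ≠ 0, ∀ w' ≠ 0, w + w' ≠ 0 → S (w + w') ≤ S w ⊔ S w')
    (eqv : ∀ (g : K) w u, u ∈ S w → g • u ∈ S (g • w)) {w0 c u0 b0 : W} {t : K} (hw : w0 ≠ 0)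
    (h8 : 8 ≤ Nat.card (S w0)) (ht : ∀ b ∈ S w0, t • b = b ∨ t • b = b + c) (hc : c ∈ S w0)
    (c0 : c ≠ 0) (hb : b0 ∈ S w0) (hb' : t • b0 = b0 + c) (hu : u0 ∉ S w0)
    (htu : t • u0 + u0 ∈ S w0) : False := by
  obtain ⟨B, hB⟩ : ∃ B, B = S w0 := ⟨_, rfl⟩
  rw [← hB] at h8 ht hc hb hu htu
  have hw0 : w0 ∈ B := hB ▸ self w0
  have crd0 : ∀ u ≠ 0, Nat.card (S u) = Nat.card B := fun u hu => hB ▸ crd u hu w0 hw
  have nz : ∀ u ∉ B, u ≠ 0 := fun u hu e => hu (e ▸ zero_mem _)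
  have dis : ∀ x ≠ 0, ∀ y ≠ 0, y ∉ S x → ∀ t ∈ S x, t ∈ S y → t = 0 :=
    fun x x0 y y0 hn t h h' => by
      by_contra t0
      exact hn (by rw [← blk x x0 t h t0, blk y y0 t h' t0]; exact self y)
  have disB : ∀ y ∉ B, ∀ t ∈ B, t ∈ S y → t = 0 := fun y hy => by
    have := dis w0 hw y (nz y hy)
    rw [← hB] at this
    exact this hy
  have sub' : ∀ u ∉ B, ∀ b ∈ B, S (b + u) ≤ B ⊔ S u := fun u hu b hb => by
    by_cases b0 : b = 0
    · rw [b0, zero_add]; exact le_sup_right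
    · have := sub b b0 u (nz u hu) (nz _ fun h => hu ((add_mem_cancel_left hb).1 h))
      rwa [blk w0 hw b (hB ▸ hb) b0, ← hB] at this
  -- graphs
  have gr : ∀ u ∉ B, ∀ w ∈ B, w ≠ 0 → (∀ x ∈ S u, x ∈ S (w + u) → x = 0) ∧
      (∀ x ∈ B, x ∈ S (w + u) → x = 0) ∧ (∀ b ∈ B, ∃ y ∈ S u, b + y ∈ S (w + u)) ∧
      ∀ y ∈ S u, ∃ b ∈ B, b + y ∈ S (w + u) := fun u hu w hw' w0' => by
    have n1 : w + u ∉ B := fun h => hu ((add_mem_cancel_left hw').1 h)
    have d0 := disB u hu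
    have n2 : w + u ∉ S u := fun h => w0' (d0 w hw' ((add_mem_cancel_right (self u)).1 h))
    have d1 := dis u (nz u hu) _ (nz _ n1) n2
    have d2 := disB _ n1
    have e1 : S u ⊔ S (w + u) = B ⊔ S u := eq_of_le_of_card_ge
      (sup_le le_sup_right (sub' u hu w hw')) (by
        rw [card_sup_of _ _ d1, card_sup_of _ _ d0, crd0 _ (nz _ n1), mul_comm])
    have e2 : B ⊔ S (w + u) = B ⊔ S u := eq_of_le_of_card_ge
      (sup_le le_sup_left (sub' u hu w hw')) (by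
        rw [card_sup_of _ _ d2, card_sup_of _ _ d0, crd _ (nz _ n1) _ (nz u hu)])
    refine ⟨d1, d2, fun b hb => ?_, fun y hy => ?_⟩
    · obtain ⟨y, hy, d, hd, rfl⟩ := mem_sup.1 (e1.ge (mem_sup_left hb))
      exact ⟨y, hy, by have := h2 y; convert hd using 1; grind⟩
    · obtain ⟨b, hb, d, hd, rfl⟩ := mem_sup.1 (e2.ge (mem_sup_right hy))
      exact ⟨b, hb, by have := h2 b; convert hd using 1; grind⟩
  have E1 : ∀ g : K, (∀ b ∈ B, g • b = b) → ∀ u ∉ B, g • u = u → ∀ y ∈ S u, g • y = y :=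
    fun g hg u hu e y hy => by
      obtain ⟨d1, -, -, d4⟩ := gr u hu w0 hw0 hw
      obtain ⟨b, hb, h⟩ := d4 y hy
      have h' := eqv g _ _ h
      rw [smul_add, smul_add, hg b hb, hg w0 hw0, e] at h'
      have h3 := eqv g _ _ hy
      rw [e] at h3
      have := h2 b; have := h2 y
      have := d1 _ (add_mem h3 hy) (by convert add_mem h h' using 1; grind)
      grind
  have tc : t • c = c := (ht c hc).resolve_right fun e => c0 (by
    rwa [h2, smul_eq_zero_iff_eq] at e)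
  let C : AddSubgroup W := B ⊓ (AddMonoidHom.mk' (fun v => t • v + v)
    (fun u v => by rw [smul_add]; abel)).ker
  have hC : ∀ v, v ∈ C ↔ v ∈ B ∧ t • v = v := fun v =>
    and_congr_right fun _ => show t • v + v = 0 ↔ _ by have := h2 v; grind
  have C1 : 2 * Nat.card C ≤ Nat.card B := two_mul_card_le inf_le_left hb fun h => by
    have := ((hC _).1 h).2
    grind
  obtain ⟨b1, hb1, b10, b1c⟩ : ∃ b1 ∈ C, b1 ≠ 0 ∧ b1 ≠ c := by
    by_contra hn
    push Not at hn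
    have : (B : Set W) ⊆ {0, c, b0, b0 + c} := fun b hb2 => by
      have k1 := h2 c; have k2 := h2 b0
      simp only [Set.mem_insert_iff, Set.mem_singleton_iff]
      rcases ht b hb2 with e | e
      · have k := hn b ((hC b).2 ⟨hb2, e⟩)
        clear * - k
        grind
      · have k := hn _ ((hC _).2 ⟨add_mem hb2 hb, by
          rw [smul_add, e, hb']; linear_combination (norm := abel1) k1⟩)
        clear * - k k1 k2
        grind
    have h4 := (Set.ncard_le_ncard this).trans (ncard_le_four _ _ _ _)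
    rw [← Nat.card_coe_set_eq] at h4
    exact absurd (h8.trans h4) (by norm_num)
  have E2 : ∀ u ∉ B, t • u ≠ u := fun u hu e => by
    obtain ⟨d1, -, d3, -⟩ := gr u hu c hc c0
    obtain ⟨-, d2, -, d4⟩ := gr u hu b1 hb1.1 b10
    obtain ⟨y, hy, h⟩ := d3 b0 hb
    obtain ⟨b, hb2, h'⟩ := d4 y hy
    have k1 := eqv t _ _ h
    have k2 := eqv t _ _ h'
    have k3 := eqv t _ _ hy
    rw [smul_add, smul_add, tc, e, hb'] at k1
    rw [smul_add, smul_add, ((hC b1).1 hb1).2, e] at k2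
    rw [e] at k3
    have := h2 b0; have := h2 y; have := h2 c; have := h2 b; have := h2 u; have := h2 b1
    have k4 := d1 _ (add_mem (add_mem k3 hy) (self u))
      (by convert add_mem (add_mem h k1) (self (c + u)) using 1; grind)
    have k5 := d2 _ (add_mem (add_mem hb2 (show t • b ∈ B from (ht b hb2).elim
      (fun e => e.symm ▸ hb2) fun e => e.symm ▸ add_mem hb2 hc)) hb1.1)
      (by convert add_mem (add_mem h' k2) (self (b1 + u)) using 1; grind)
    rcases ht b hb2 with e | e <;> grind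
  have tB : ∀ b ∈ B, t • b ∈ B := fun b hb =>
    (ht b hb).elim (fun e => e.symm ▸ hb) fun e => e.symm ▸ add_mem hb hc
  have ttB : ∀ b ∈ B, (t * t) • b = b := fun b hb => by
    have := h2 c
    rcases ht b hb with e | e <;> rw [mul_smul, e] <;> [exact e; (rw [smul_add, e, tc]; grind)]
  obtain ⟨Z, hZ⟩ : ∃ Z, Z = B ⊔ S u0 := ⟨_, rfl⟩
  have Z1 : ∀ {y}, y ∈ S u0 → y ∈ Z := fun hy => hZ ▸ mem_sup_right hy
  have Z2 : ∀ {y}, y ∈ B → y ∈ Z := fun hy => hZ ▸ mem_sup_left hy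
  have S1 : ∀ u ∈ Z, u ∉ B → S u ≤ Z := fun u hu1 hu' => by
    obtain ⟨b, hb, y, hy, rfl⟩ := mem_sup.1 (hZ ▸ hu1)
    have y1 : y ∉ B := fun h => hu' (add_mem hb h)
    simpa only [blk u0 (nz u0 hu) y hy (nz y y1), hZ] using sub' y y1 b hb
  have S2 : ∀ u ∈ Z, t • u ∈ Z := fun u hu' => by
    obtain ⟨b, hb, y, hy, rfl⟩ := mem_sup.1 (hZ ▸ hu')
    have := h2 u0
    rw [smul_add]
    refine add_mem (Z2 (tB b hb)) (S1 (t • u0) ?_ (fun h => hu ?_) (eqv t _ _ hy))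
    · convert add_mem (Z2 htu) (Z1 (self u0)) using 1; rw [add_assoc, this, add_zero]
    · exact (add_mem_cancel_left h).1 htu
  obtain ⟨N, hN⟩ : ∃ N : W → W, ∀ v, N v = t • v + v := ⟨_, fun _ => rfl⟩
  have N1 : ∀ u v, N (u + v) = N u + N v := fun u v => by simp only [hN, smul_add]; abel
  have N2 : ∀ v, N (N v) = (t * t) • v + v := fun v => by
    simp only [hN, smul_add, mul_smul]
    linear_combination (norm := abel1) h2 (t • v)
  have N3 : ∀ v ∈ Z, N v ∈ Z := fun v hv => hN v ▸ add_mem (S2 v hv) hv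
  have N4 : ∀ v, N v = 0 ↔ t • v = v := fun v => by rw [hN, two_eq h2]
  have E3 : ∀ u ∈ Z, N (N u) = 0 → u ∈ B := fun u hu e => by
    by_contra hu'
    have f1 : ∀ y ∈ S u, N (N y) = 0 := fun y hy => by
      rw [N2, E1 _ ttB u hu' ((two_eq h2).1 (N2 u ▸ e)) y hy, h2]
    have f2 : (S u : Set W).ncard ≤ (C : Set W).ncard := by
      refine Set.ncard_le_ncard_of_injOn N (fun y hy => ?_) fun y hy y' hy' e => ?_
      · have := (N4 _).1 (f1 y hy)
        exact (hC _).2 ⟨by by_contra h; exact E2 _ h this, this⟩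
      · have f3 : t • (y + y') = y + y' := (N4 _).1 (by rw [N1, e, h2])
        exact (two_eq h2).1 (disB u hu' _ (by by_contra h; exact E2 _ h f3) (add_mem hy hy'))
    rw [← Nat.card_coe_set_eq, ← Nat.card_coe_set_eq] at f2
    have := crd0 u (nz u hu')
    have : Nat.card (S u) ≤ Nat.card C := f2
    omega
  have E4 : ∀ y ∈ S u0, N (N y) ∈ B := fun y hy => by
    refine E3 _ (N3 _ (N3 _ (Z1 hy))) ?_
    have f1 : (t * t * (t * t)) • y = y := by
      refine E1 _ (fun b hb => by rw [mul_smul, ttB b hb, ttB b hb]) u0 hu ?_ y hy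
      have f2 := ttB _ (add_mem (tB _ htu) htu)
      simp only [mul_smul, smul_add] at f2 ⊢
      linear_combination (norm := abel1) f2 - h2 (t • t • t • u0) - h2 (t • t • u0) + h2 (t • u0)
        + h2 (t • t • u0)
    rw [N2, N2, smul_add, ← mul_smul, f1]
    linear_combination (norm := abel1) h2 ((t * t) • y) + h2 y
  have NB : ∀ b ∈ B, N b = 0 ∨ N b = c := fun b hb => by
    rcases ht b hb with e | e
    · exact Or.inl ((N4 b).2 e)
    · exact Or.inr (by rw [hN, e]; linear_combination (norm := abel1) h2 b)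
  obtain ⟨c', hc'⟩ : ∃ c', ∀ y ∈ S u0, N (N y) ∈ ({0, c, c', c' + c} : Set W) := by
    by_cases h : ∃ y0 ∈ S u0, N (N (N y0)) = c
    · obtain ⟨y0, hy0, e0⟩ := h
      refine ⟨N (N y0), fun y hy => ?_⟩
      simp only [Set.mem_insert_iff, Set.mem_singleton_iff]
      rcases NB _ (E4 y hy) with e | e
      · have := NB _ (E3 _ (N3 _ (Z1 hy)) e)
        tauto
      · have := NB _ (E3 _ (add_mem (N3 _ (Z1 hy)) (N3 _ (Z1 hy0)))
          (by rw [N1, N1, e, e0, h2]))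
        have k := h2 (N (N y0))
        rw [N1] at this
        clear * - this k
        grind
    · refine ⟨0, fun y hy => ?_⟩
      have := NB _ (E3 _ (N3 _ (Z1 hy))
        ((NB _ (E4 y hy)).resolve_right fun e => h ⟨y, hy, e⟩))
      simp only [Set.mem_insert_iff, Set.mem_singleton_iff]
      tauto
  have f2 : (S u0 : Set W).ncard ≤ ({0, c, c', c' + c} : Set W).ncard := by
    refine Set.ncard_le_ncard_of_injOn (fun y => N (N y)) hc' fun y hy y' hy' e => ?_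
    exact (two_eq h2).1 (disB u0 hu _ (E3 _ (Z1 (add_mem hy hy'))
      (by rw [N1, N1, show N (N y) = N (N y') from e, h2])) (add_mem hy hy'))
  have f3 := f2.trans (ncard_le_four _ _ _ _)
  rw [← Nat.card_coe_set_eq] at f3
  have := crd0 u0 (nz u0 hu)
  have : Nat.card (S u0) ≤ 4 := f3
  omega

end Cfsg.Agent.AF
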