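import Cfsg.Agent.Lib.AF.Flag
import Cfsg.Agent.Lib.AF.Spread
import Cfsg.Agent.Lib.AF.Burnside

/-!
# Doubly transitive linear groups over the field with two elements, part A
-/

set_option autoImplicit false
set_option linter.unusedSectionVars false

namespace Cfsg.Agent.AF

open Finset MulAction AddSubgroup

variable {V : Type*} [AddCommGroup V] [Finite V] {G : Type*} [Group G] [Finite G]
  [DistribMulAction G V]

/-- independent pair -/
def I2 (x y : V) : Prop := x ≠ 0 ∧ y ≠ 0 ∧ y ≠ x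

/-- double transitivity on nonzero vectors -/
structure TT (G : Type*) (V : Type*) [AddCommGroup V] [Group G] [DistribMulAction G V] : Prop where
  two : ∀ v : V, v + v = 0
  tr : ∀ x y x' y' : V, I2 x y → I2 x' y' → ∃ g : G, g • x = x' ∧ g • y = y'

theorem I2.symm {x y : V} (h : I2 x y) : I2 y x := ⟨h.2.1, h.1, h.2.2.symm⟩

theorem I2.smul {x y : V} (h : I2 x y) (g : G) : I2 (g • x) (g • y) :=
  ⟨(smul_ne_zero_iff_ne g).2 h.1, (smul_ne_zero_iff_ne g).2 h.2.1, by simpa using h.2.2⟩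

theorem I2.add (h2 : ∀ v : V, v + v = 0) {x y : V} (h : I2 x y) : I2 x (y + x) := by
  have := h2 x
  unfold I2 at *
  grind

theorem mem_ln1 {h2 : ∀ v : V, v + v = 0} {x u : V} : u ∈ ln1 h2 x ↔ u = 0 ∨ u = x := Iff.rfl

theorem mem_ln2 {h2 : ∀ v : V, v + v = 0} {x y u : V} :
    u ∈ ln2 h2 x y ↔ u = 0 ∨ u = x ∨ u = y ∨ u = x + y := Iff.rfl

theorem smul_mem_ln2 {h2 : ∀ v : V, v + v = 0} {x y u : V} (g : G) :
    g • u ∈ ln2 h2 (g • x) (g • y) ↔ u ∈ ln2 h2 x y := by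
  simp [mem_ln2, ← smul_add, smul_eq_zero_iff_eq]

theorem ln2_comm {h2 : ∀ v : V, v + v = 0} (x y : V) : ln2 h2 x y = ln2 h2 y x := by
  ext u; simp only [mem_ln2, add_comm x y]; tauto

theorem ln2_add {h2 : ∀ v : V, v + v = 0} (x y : V) : ln2 h2 x (y + x) = ln2 h2 x y := by
  ext u; have := h2 x; simp only [mem_ln2]; grind

theorem I2.third {h2 : ∀ v : V, v + v = 0} {x y z : V} (h : I2 x y) (hz : z ∉ ln2 h2 x y) :
    I2 x z ∧ y ∉ ln2 h2 x z := by
  have := h2 x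
  simp only [I2, mem_ln2] at *
  grind

theorem exists_extend (h2 : ∀ v : V, v + v = 0) (U : AddSubgroup V) (m : U →+ ZMod 2) :
    ∃ l : V →+ ZMod 2, ∀ u : U, l u = m u := by
  letI : Module (ZMod 2) V := AddCommGroup.zmodModule fun x => by rw [two_nsmul, h2]
  obtain ⟨l, hl⟩ := LinearMap.exists_extend (p := AddSubgroup.toZModSubmodule 2 U)
    (AddMonoidHom.toZModLinearMap 2 m)
  exact ⟨l.toAddMonoidHom, fun u => LinearMap.congr_fun hl u⟩

namespace TT

theorem trans (h : TT G V) {x y : V} (hx : x ≠ 0) (hy : y ≠ 0) : ∃ g : G, g • x = y := by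
  by_cases e : y = x
  · exact ⟨1, by simp [e]⟩
  · exact (h.tr x y y x ⟨hx, hy, e⟩ ⟨hy, hx, Ne.symm e⟩).imp fun _ => And.left

theorem dual (h : TT G V) {x m : V} (hx : x ≠ 0) {l l' : Du V} (h0 : ev V x l = ev V x l')
    (h1 : ev V m l = 1) (h2 : ev V m l' = 1) : ∃ g : G, g • x = x ∧ g • l = l' := by
  refine (pr_ev h.two).flip.exists_smul (K := G) (fun g l w => ev_inv g w l) (stabilizer G x) h1 h2
    fun v hv => h.tr x v x (v + m) ⟨hx, ?_, ?_⟩ ⟨hx, ?_, ?_⟩ <;>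
    change ev V v l ≠ ev V v l' at hv <;> intro e
  · simp [e] at hv
  · exact hv (e ▸ h0)
  · have : ev V (v + m) l = ev V (v + m) l' := by simp [e]
    simp [h1, h2, hv] at this
  · have : ev V (v + m) l = ev V (v + m) l' := e ▸ h0
    simp [h1, h2, hv] at this

theorem afh (h : TT G V) : AFH G (ev V) :=
  ⟨pr_ev h.two, ev_inv, fun w w' l l' h1 h2 => by
    have w0 : w' ≠ 0 := by rintro rfl; simp at h2
    obtain ⟨g, rfl⟩ := h.trans (x := w) (by rintro rfl; simp at h1) w0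
    have h3 : ev V (g • w) (g • l) = 1 := by rw [ev_inv, h1]
    obtain ⟨k, k1, k2⟩ := h.dual w0 (h3.trans h2.symm) h3 h2
    exact ⟨k * g, by rw [mul_smul, k1], by rw [mul_smul, k2]⟩⟩

theorem flag (h : TT G V) {x x' : V} (hx : x ≠ 0) (hx' : x' ≠ 0) {l l' : Du V} (h1 : ev V x l = 0)
    (h2 : ev V x' l' = 0) (h3 : l ≠ 0) (h4 : l' ≠ 0) : ∃ g : G, g • x = x' ∧ g • l = l' := by
  obtain ⟨g, rfl⟩ := h.trans hx hx'
  obtain ⟨u, hu⟩ := (pr_ev h.two).flip.exists_one ((smul_ne_zero_iff_ne g).2 h3)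
  obtain ⟨u', hu'⟩ := (pr_ev h.two).flip.exists_one h4
  obtain ⟨m, -, m1, m2⟩ := exists_both (f := (ev V).flip (g • l)) (g := (ev V).flip l')
    (mem_top u) (mem_top u') hu hu'
  obtain ⟨k, k1, k2⟩ := h.dual hx' (l := g • l) (l' := l') (by rw [ev_inv, h1, h2]) m1 m2
  exact ⟨k * g, by rw [mul_smul, k1], by rw [mul_smul, k2]⟩

theorem good (h : TT G V) {x y : V} (hi : I2 x y) : Good G (ev V) x y := by
  obtain ⟨z, z0, z1, hz⟩ := h.afh.exists_good hi.2.1 hi.2.2
  obtain ⟨g, e1, e2⟩ := h.tr x z x y ⟨hi.1, z0, z1⟩ hi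
  simpa only [e1, e2] using h.afh.good_smul hz g

theorem op3 (h : TT G V) {x y u m : V} (hi : I2 x y) (hu : u ∉ ln2 h.two x y)
    (hm : m ∈ ln2 h.two x y) : ∃ g : G, g • x = x ∧ g • y = y ∧ g • u = u + m :=
  h.afh.good_per (h.good hi) hi.1 hi.2.1 hi.2.2 hu hm

theorem opA (h : TT G V) {x y u : V} (hi : I2 x y) (hu : u ∉ ln2 h.two x y) :
    ∃ g : G, g • x = x ∧ g • y = y + x ∧ g • u = u :=
  let ⟨g, e1, e2, e3⟩ := h.op3 (hi.third hu).1 (hi.third hu).2 (m := x) (by simp [mem_ln2])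
  ⟨g, e1, e3, e2⟩

theorem opS (h : TT G V) {x y u : V} (hi : I2 x y) (hu : u ∉ ln2 h.two x y) :
    ∃ g : G, g • x = y ∧ g • y = x ∧ g • u = u := by
  have := h.two x; have := h.two y
  obtain ⟨g1, a1, a2, a3⟩ := h.opA hi hu
  obtain ⟨g2, b1, b2, b3⟩ := h.opA (hi.add h.two).symm (by rwa [ln2_comm, ln2_add])
  obtain ⟨g3, c1, c2, c3⟩ := h.opA (u := u) (hi.symm.add h.two) (by rwa [ln2_add, ln2_comm])
  refine ⟨g3 * g2 * g1, ?_, ?_, by rw [mul_smul, mul_smul, a3, b3, c3]⟩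
  · rw [mul_smul, mul_smul, a1, b2, show x + (y + x) = y by grind, c1]
  · rw [mul_smul, mul_smul, a2, b1, add_comm, c2]; grind

theorem adj (h : TT G V) {x y u y' u' : V} (hi : I2 x y) (hu : u ∉ ln2 h.two x y)
    (h1 : y' + y ∈ ln1 h.two x) (h2 : u' + u ∈ ln1 h.two x) :
    ∃ g : G, g • x = x ∧ g • y' = y ∧ g • u' = u := by
  have k1 := h.two x; have k2 := h.two y; have k3 := h.two u
  obtain ⟨g, a1, a2, a3⟩ := h.op3 hi hu (m := u' + u) (h2.elim Or.inl fun e => Or.inr (Or.inl e))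
  replace a3 : g • u = u' := by rw [a3]; grind
  rcases h1 with e | e
  · obtain rfl : y' = y := by grind
    exact ⟨g⁻¹, by rw [inv_smul_eq_iff, a1], by rw [inv_smul_eq_iff, a2], by rw [inv_smul_eq_iff, a3]⟩
  · obtain rfl : y' = y + x := by grind
    obtain ⟨k, b1, b2, b3⟩ := h.opA hi hu
    refine ⟨k * g⁻¹, ?_, ?_, ?_⟩ <;> rw [mul_smul]
    · rw [inv_smul_eq_iff.2 a1.symm, b1]
    · rw [inv_smul_eq_iff.2 (show y + x = g • (y + x) by rw [smul_add, a1, a2]), smul_add, b1, b2]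
      grind
    · rw [inv_smul_eq_iff.2 a3.symm, b3]

/-- action of a point stabilizer on the quotient -/
@[reducible] def qa (h : TT G V) (x : V) : DistribMulAction (stabilizer G x) (V ⧸ ln1 h.two x) :=
  quotAct _ (by
    rintro g a (rfl | rfl)
    · exact Or.inl (smul_zero g)
    · exact Or.inr g.2)

theorem mk_ne (h : TT G V) {x y : V} : (y : V ⧸ ln1 h.two x) ≠ 0 ↔ y ≠ 0 ∧ y ≠ x := by
  rw [Ne, QuotientAddGroup.eq_zero_iff, mem_ln1, not_or]

theorem afh_quot (h : TT G V) {x : V} (hx : x ≠ 0) :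
    letI := h.qa x; AFH (stabilizer G x) (ev (V ⧸ ln1 h.two x)) := by
  letI := h.qa x
  refine ⟨pr_ev (two_quot h.two _), ev_inv, ?_⟩
  intro w w' l l' h1 h2
  obtain ⟨w, rfl⟩ := QuotientAddGroup.mk_surjective w
  obtain ⟨w', rfl⟩ := QuotientAddGroup.mk_surjective w'
  let p : Du (V ⧸ ln1 h.two x) → Du V := fun l => AddMonoidHom.comp l (QuotientAddGroup.mk' _)
  have p0 : ∀ l, ev V x (p l) = 0 := fun l => by
    change ev _ (x : V ⧸ ln1 h.two x) l = 0
    rw [(QuotientAddGroup.eq_zero_iff x).2 (Or.inr rfl)]; simp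
  have i1 : I2 x w := ⟨hx, h.mk_ne.1 (by intro e; rw [e] at h1; simp at h1)⟩
  have i2 : I2 x w' := ⟨hx, h.mk_ne.1 (by intro e; rw [e] at h2; simp at h2)⟩
  obtain ⟨g, g1, g2⟩ := h.tr x w x w' i1 i2
  obtain ⟨k, k1, k2, k3⟩ := h.afh.good_fix (h.good i2.symm) (l := g • p l) (l' := p l')
    (by rw [← g2, ev_inv]; exact h1) h2 (by rw [p0]; nth_rw 1 [← g1]; rw [ev_inv, p0])
  refine ⟨⟨k * g, by rw [mem_stabilizer_iff, mul_smul, g1, k2]⟩,
    congrArg QuotientAddGroup.mk (show (k * g) • w = w' by rw [mul_smul, g2, k1]), ?_⟩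
  refine AddMonoidHom.ext ?_
  rintro ⟨v⟩
  rw [← mul_smul] at k3
  exact congrArg (ev V v) k3

/-- action of a hyperplane stabilizer on the hyperplane -/
@[reducible] def ha (l : Du V) : DistribMulAction (stabilizer G l) ((ev V).flip l).ker :=
  subAct _ fun g a ha => by
    change ev V ((g : G) • a) l = 0
    have := ev_inv (g : G) a l
    rw [show (g : G) • l = l from g.2] at this
    exact this.trans ha

theorem afh_hyp (h : TT G V) {l : Du V} (hl : l ≠ 0) :
    letI := ha (G := G) l; AFH (stabilizer G l) (ev ((ev V).flip l).ker) := by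
  letI := ha (G := G) l
  refine ⟨pr_ev fun v => Subtype.ext (h.two _), ev_inv, ?_⟩
  intro w w' m m' h1 h2
  obtain ⟨n, hn⟩ := exists_extend h.two _ m
  obtain ⟨n', hn'⟩ := exists_extend h.two _ m'
  have w0 : (w : V) ≠ 0 := fun e => by rw [show w = 0 from Subtype.ext e] at h1; simp at h1
  have w0' : (w' : V) ≠ 0 := fun e => by rw [show w' = 0 from Subtype.ext e] at h2; simp at h2
  obtain ⟨g, g1, g2⟩ := h.flag w0 w0' w.2 w'.2 hl hl
  have a1 : ev V w' (g • (show Du V from n)) = 1 := by rw [← g1, ev_inv]; exact (hn w).trans h1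
  have a2 : ev V w' (show Du V from n') = 1 := (hn' w').trans h2
  obtain ⟨k, k1, k2⟩ := h.dual w0' (a1.trans a2.symm) a1 a2
  obtain ⟨j, hj⟩ := ncard_fiber_pow two_du ⊤ (ev V w') (mem_top _) a1 1
  obtain ⟨t, ht, e⟩ := trans_of_odd (T := stabilizer G l ⊓ stabilizer G (w' : V))
    (Y := stabilizer G (w' : V)) (a := g • (show Du V from n)) (k := j) (by
      rw [Subgroup.inf_relIndex_right, relIndex_stab]
      have e1 : {a' | ∃ g ∈ stabilizer G (w' : V), g • l = a'} =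
          ((ev V w').ker : Set (Du V)) \ {0} := by
        ext a
        refine ⟨?_, fun ha => h.flag w0' w0' w'.2 ha.1 hl ha.2⟩
        rintro ⟨g, hg, rfl⟩
        refine ⟨?_, (smul_ne_zero_iff_ne g).2 hl⟩
        change ev V w' (g • l) = 0
        rw [← show g • (w' : V) = w' from hg, ev_inv]; exact w'.2
      have e2 := Set.ncard_sdiff_singleton_add_one (s := ((ev V w').ker : Set (Du V))) (a := 0)
        (zero_mem _)
      have e3 : 2 ∣ Nat.card (ev V w').ker := by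
        obtain ⟨i, hi⟩ := card_sub_pow two_du (ev V w').ker
        rw [hi]
        refine dvd_pow_self 2 fun e => hl ?_
        rw [e, pow_zero, AddSubgroup.card_eq_one] at hi
        exact (eq_bot_iff_forall _).1 hi l w'.2
      rw [← SetLike.coe_sort_coe, Nat.card_coe_set_eq] at e3
      rw [e1]
      omega) (by
      rw [← hj]; congr 1; ext a
      exact ⟨fun ⟨g, hg, e⟩ => ⟨trivial, by rw [← e, ← show g • (w' : V) = w' from hg, ev_inv, a1]⟩,
        fun ha => h.dual w0' (a1.trans ha.2.symm) a1 ha.2⟩) k1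
  refine ⟨⟨t * g, by rw [mem_stabilizer_iff, mul_smul, g2]; exact ht.1⟩,
    Subtype.ext (show (t * g) • (w : V) = w' by rw [mul_smul, g1]; exact ht.2), ?_⟩
  refine AddMonoidHom.ext fun v => ?_
  rw [k2, ← mul_smul] at e
  exact (hn _).symm.trans ((congrArg (ev V v) e).trans (hn' v))

theorem tri_of_64 (h : TT G V) (hV : Nat.card V = 64) {x y u u' : V} (hi : I2 x y)
    (hu : u ∉ ln2 h.two x y) (hu' : u' ∉ ln2 h.two x y) :
    ∃ g : G, g • x = x ∧ g • y = y ∧ g • u = u' := by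
  letI := h.qa x
  have ha := h.afh_quot hi.1
  have hW : Nat.card (V ⧸ ln1 h.two x) = 32 := by
    have e := card_eq_card_quotient_mul_card_addSubgroup (ln1 h.two x)
    have e2 : Nat.card (ln1 h.two x) = 2 := by
      rw [← SetLike.coe_sort_coe, Nat.card_coe_set_eq]
      exact Set.ncard_pair hi.1.symm
    rw [e2, hV] at e
    omega
  have y0 := h.mk_ne.2 hi.2
  have ne : ∀ u ∉ ln2 h.two x y, (u : V ⧸ ln1 h.two x) ≠ 0 ∧ (y : V ⧸ ln1 h.two x) ≠ u :=
    fun u hu => ⟨h.mk_ne.2 (hi.third hu).1.2, fun e => hu (by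
      have := (mk_eq_mk h.two).1 e
      have := h.two y
      simp only [mem_ln1, mem_ln2] at *
      grind)⟩
  have : Fact (Nat.Prime 31) := ⟨by norm_num⟩
  rcases burnside' (G := stabilizer G x) (p := 31) (Ω := {w : V ⧸ ln1 h.two x | w ≠ 0}) (a := y)
    (by
      have := Set.ncard_sdiff_singleton_add_one (s := (Set.univ : Set (V ⧸ ln1 h.two x))) (a := 0)
        trivial
      rw [Set.ncard_univ, hW] at this
      rw [show {w : V ⧸ ln1 h.two x | w ≠ 0} = Set.univ \ {0} by ext; simp]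
      omega)
    (fun w => ⟨ha.trans y0, by rintro ⟨g, rfl⟩; exact (smul_ne_zero_iff_ne g).2 y0⟩) with e | e
  · obtain ⟨g, e1, e2⟩ := e _ y0 _ (ne u hu).1 _ y0 _ (ne u' hu').1 (ne u hu).2 (ne u' hu').2
    obtain ⟨k, k1, k2, k3⟩ := h.adj hi hu' ((mk_eq_mk h.two).1 e1) ((mk_eq_mk h.two).1 e2)
    exact ⟨k * g, by rw [mul_smul, show (g : G) • x = x from g.2, k1], (mul_smul _ _ _).trans k2,
      (mul_smul _ _ _).trans k3⟩
  · exfalso
    obtain ⟨z, z0, z1, hz⟩ := ha.exists_good (ne u hu).1 (ne u hu).2.symm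
    obtain ⟨v, hv⟩ : ∃ v, v ∉ ln2 ha.two y z := by
      by_contra hn
      push Not at hn
      have := (Set.ncard_le_ncard (show Set.univ ⊆ ({0, (y : V ⧸ ln1 h.two x), z, y + z} : Set _)
        from fun v _ => hn v)).trans (ncard_le_four _ _ _ _)
      rw [Set.ncard_univ] at this
      omega
    obtain ⟨g, e1, e2, e3⟩ := ha.good_per hz y0 z0 z1 hv (m := y) (by simp [mem_ln2])
    rw [e _ y0 _ z0 z1.symm g e1 e2 v fun e => hv (Or.inl e)] at e3
    exact y0 (by simpa using e3)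

end TT

end Cfsg.Agent.AF
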