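import Cfsg.Agent.Lib.AF.TwoA

/-!
# Doubly transitive linear groups over the field with two elements, part B
-/

set_option autoImplicit false
set_option linter.unusedSectionVars false

namespace Cfsg.Agent.AF

open Finset MulAction AddSubgroup

variable {V : Type*} [AddCommGroup V] [Finite V] {G : Type*} [Group G] [Finite G]
  [DistribMulAction G V]

/-- the family of subspaces attached to the odd orbit on planes -/
structure Tri (h : TT G V) (S : V → V → AddSubgroup V) : Prop where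
  le : ∀ x y, ln2 h.two x y ≤ S x y
  eqv : ∀ (g : G) x y u, u ∈ S x y → g • u ∈ S (g • x) (g • y)
  sw : ∀ x y, I2 x y → S y x = S x y
  ad : ∀ x y, I2 x y → S x (y + x) = S x y
  sym : ∀ x y z, I2 x y → z ∈ S x y → z ∉ ln2 h.two x y → y ∈ S x z
  tr : ∀ x y z x' y' z', I2 x y → I2 x' y' → z ∈ S x y → z ∉ ln2 h.two x y → z' ∈ S x' y' →
    z' ∉ ln2 h.two x' y' → ∃ g : G, g • x = x' ∧ g • y = y' ∧ g • z = z'
  per : ∀ x y u m, I2 x y → u ∉ S x y → m ∈ S x y → ∃ g : G, g • x = x ∧ g • y = y ∧ g • u = u + m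
  big : ∀ x y, I2 x y → ∃ z ∈ S x y, z ∉ ln2 h.two x y
  sub : ∀ x y y', I2 x y → I2 x y' → I2 x (y + y') → S x (y + y') ≤ S x y ⊔ S x y'
  blk : ∃ x y, I2 x y ∧ ((∀ x y z, I2 x y → z ∈ S x y → z ∉ ln2 h.two x y → S x z = S x y) →
    ∀ (t : G) c u b, 16 ≤ Nat.card (S x y) → t • x = x →
    (∀ b ∈ S x y, t • b + b ∈ ln1 h.two x ∨ t • b + (b + c) ∈ ln1 h.two x) → c ∈ S x y →
    c ∉ ln1 h.two x → b ∈ S x y → t • b + (b + c) ∈ ln1 h.two x → u ∉ S x y →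
    t • u + u ∈ S x y → False)

theorem card_le_of_smul {A B : AddSubgroup V} (g : G) (h : ∀ u ∈ A, g • u ∈ B) :
    Nat.card A ≤ Nat.card B :=
  Nat.card_le_card_of_injective (fun u => ⟨g • (u : V), h u u.2⟩) fun _ _ e =>
    Subtype.ext (smul_left_cancel g (congrArg Subtype.val e))

theorem card_ln1 (h2 : ∀ v : V, v + v = 0) {x : V} (hx : x ≠ 0) : Nat.card (ln1 h2 x) = 2 := by
  rw [← SetLike.coe_sort_coe, Nat.card_coe_set_eq]
  exact Set.ncard_pair hx.symm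

theorem card_comap_mk (A : AddSubgroup V) (B : AddSubgroup (V ⧸ A)) :
    Nat.card (B.comap (QuotientAddGroup.mk' A)) = Nat.card A * Nat.card B := by
  have e1 := (B.comap (QuotientAddGroup.mk' A)).card_mul_index
  rw [index_comap_of_surjective _ (QuotientAddGroup.mk'_surjective A),
    card_eq_card_quotient_mul_card_addSubgroup A, ← B.card_mul_index] at e1
  refine Nat.eq_of_mul_eq_mul_right (Nat.pos_of_ne_zero (index_ne_zero_of_finite (H := B))) ?_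
  rw [e1]; ring

theorem TT.exists_tri (h : TT G V) {x0 y0 v0 : V} (hi : I2 x0 y0) (hv : v0 ∉ ln2 h.two x0 y0) :
    ∃ S, Tri h S := by
  letI := h.qa x0
  have ha := h.afh_quot hi.1
  have ne : ∀ {y u}, u ∉ ln2 h.two x0 y ↔
      (u : V ⧸ ln1 h.two x0) ≠ 0 ∧ (u : V ⧸ ln1 h.two x0) ≠ y := fun {y u} => by
    have := h.two y
    rw [h.mk_ne, show (u : V ⧸ ln1 h.two x0) ≠ y ↔ _ from (mk_eq_mk h.two).not, mem_ln1, mem_ln2]
    grind
  obtain ⟨z0, a1, a2, hg⟩ := ha.exists_good (ne.1 hv).1 (ne.1 hv).2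
  obtain ⟨z0, rfl⟩ := QuotientAddGroup.mk_surjective z0
  have hz := ne.2 ⟨a1, a2⟩
  obtain ⟨F, hF, hF'⟩ := ha.exists_fam hg (h.mk_ne.2 hi.2) a1 a2
  let R : V → V → V → Prop := fun x y u => ∃ g : G, g • x0 = x ∧ g • y0 = y ∧ g • z0 = u
  have Ri : ∀ {x y u}, R x y u → I2 x y ∧ u ∉ ln2 h.two x y := by
    rintro _ _ _ ⟨g, rfl, rfl, rfl⟩
    exact ⟨hi.smul g, by rwa [smul_mem_ln2]⟩
  have Rs : ∀ {x y u x' y' u'}, R x y u → (∃ g : G, g • x = x' ∧ g • y = y' ∧ g • u = u') →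
      R x' y' u' := by
    rintro _ _ _ _ _ _ ⟨k, rfl, rfl, rfl⟩ ⟨g, rfl, rfl, rfl⟩
    exact ⟨g * k, mul_smul _ _ _, mul_smul _ _ _, mul_smul _ _ _⟩
  have br : ∀ {y u}, I2 x0 y → ((u ∈ ln2 h.two x0 y ∨ R x0 y u) ↔
      (u : V ⧸ ln1 h.two x0) ∈ F y) := fun {y u} hy => by
    rw [hF']
    constructor
    · rintro (hu | ⟨g, e1, rfl, rfl⟩)
      · have := ne.not.1 (not_not.2 hu)
        tauto
      · exact Or.inr (Or.inr ⟨⟨g, e1⟩, rfl, rfl⟩)
    · intro hu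
      by_cases hu' : u ∈ ln2 h.two x0 y
      · exact Or.inl hu'
      · obtain ⟨g, e1, e2⟩ := (hu.resolve_left (ne.1 hu').1).resolve_left (ne.1 hu').2
        exact Or.inr (Rs ⟨g, g.2, rfl, rfl⟩
          (h.adj hy hu' ((mk_eq_mk h.two).1 e1) ((mk_eq_mk h.two).1 e2)))
  have eq' : ∀ (g : G) x y u, u ∈ ln2 h.two x y ∨ R x y u →
      g • u ∈ ln2 h.two (g • x) (g • y) ∨ R (g • x) (g • y) (g • u) := fun g x y u hu =>
    hu.imp (smul_mem_ln2 g).2 fun hu => Rs hu ⟨g, rfl, rfl, rfl⟩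
  have ad' : ∀ x y u u', I2 x y → u ∈ ln2 h.two x y ∨ R x y u → u' ∈ ln2 h.two x y ∨ R x y u' →
      u + u' ∈ ln2 h.two x y ∨ R x y (u + u') := fun x y u u' hy hu hu' => by
    obtain ⟨g, rfl⟩ := h.trans hi.1 hy.1
    have h1 := eq' g⁻¹ _ _ _ hu
    have h2 := eq' g⁻¹ _ _ _ hu'
    have h3 := hy.smul g⁻¹
    rw [inv_smul_smul] at h1 h2 h3
    simpa using eq' g _ _ _ ((br (u := g⁻¹ • u + g⁻¹ • u') h3).2
      (add_mem ((br h3).1 h1) ((br h3).1 h2)))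
  let S : V → V → AddSubgroup V := fun x y =>
    { carrier := {u | u ∈ ln2 h.two x y ∨ R x y u}
      zero_mem' := Or.inl (zero_mem _)
      neg_mem' := fun {a} ha => by rwa [neg_eq_of_add_eq_zero_left (h.two a)]
      add_mem' := by
        rintro u u' (hu | hu) (hu' | hu')
        · exact Or.inl (add_mem hu hu')
        · exact ad' x y u u' (Ri hu').1 (Or.inl hu) (Or.inr hu')
        · exact ad' x y u u' (Ri hu).1 (Or.inr hu) (Or.inl hu')
        · exact ad' x y u u' (Ri hu).1 (Or.inr hu) (Or.inr hu') }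
  have br' : ∀ {y u}, I2 x0 y → (u ∈ S x0 y ↔ (u : V ⧸ ln1 h.two x0) ∈ F y) := br
  have eqv : ∀ (g : G) x y u, u ∈ S x y → g • u ∈ S (g • x) (g • y) := eq'
  have sw : ∀ x y, S y x ≤ S x y := fun x y u hu => hu.imp (by rw [ln2_comm]; exact id)
    fun hu => Rs hu (h.opS (Ri hu).1 (Ri hu).2)
  have ad : ∀ x y, S x y ≤ S x (y + x) := fun x y u hu => hu.imp (by rw [ln2_add]; exact id)
    fun hu => Rs hu (h.opA (Ri hu).1 (Ri hu).2)
  have sub0 : ∀ y y', I2 x0 y → I2 x0 y' → I2 x0 (y + y') → S x0 (y + y') ≤ S x0 y ⊔ S x0 y' :=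
    fun y y' h1 h2 h3 u hu => by
      obtain ⟨p, hp, q, hq, e⟩ := mem_sup.1 (ha.subadd hF (h.mk_ne.2 h1.2) (h.mk_ne.2 h2.2)
        (h.mk_ne.2 h3.2) ((br' h3).1 hu))
      obtain ⟨p, rfl⟩ := QuotientAddGroup.mk_surjective p
      obtain ⟨q, rfl⟩ := QuotientAddGroup.mk_surjective q
      have e1 : p + q + u ∈ S x0 y := Or.inl (((mk_eq_mk h.two).1 e).elim Or.inl
        fun e => Or.inr (Or.inl e))
      have := h.two p; have := h.two q
      convert add_mem (mem_sup_left (add_mem e1 ((br' h1).2 hp)) : _ ∈ S x0 y ⊔ S x0 y')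
        (mem_sup_right ((br' h2).2 hq)) using 1
      grind
  refine ⟨S, ⟨fun x y u hu => Or.inl hu, eqv, fun x y _ => le_antisymm (sw x y) (sw y x),
    fun x y _ => le_antisymm (by simpa [add_assoc, h.two] using ad x (y + x)) (ad x y),
    fun x y z hy hz hz' => ?_, ?_, fun x y u m hy hu hm => ?_, fun x y hy => ?_,
    fun x y y' h1 h2 h3 u hu => ?_, x0, y0, hi, ?_⟩⟩
  · obtain ⟨g, e1, e2, e3⟩ := h.opS (u := x) (hy.symm.third (by rwa [ln2_comm])).1 (by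
      have := h.two x; have := h.two y
      simp only [mem_ln2, I2] at *
      grind)
    exact Or.inr (Rs (hz.resolve_left hz') ⟨g, e3, e1, e2⟩)
  · rintro x y z x' y' z' - - (h1 | ⟨g, rfl, rfl, rfl⟩) h2 (h3 | ⟨k, rfl, rfl, rfl⟩) h4 <;>
      try contradiction
    exact ⟨k * g⁻¹, by simp [mul_smul], by simp [mul_smul], by simp [mul_smul]⟩
  · obtain ⟨k, rfl⟩ := h.trans hi.1 hy.1
    have h3 := hy.smul k⁻¹
    have h4 := eqv k⁻¹ _ _ _ hm
    rw [inv_smul_smul] at h3 h4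
    have h5 : k⁻¹ • u ∉ S x0 (k⁻¹ • y) := fun e => hu (by simpa using eqv k _ _ _ e)
    obtain ⟨g, e1, e2⟩ := hF.per _ (h.mk_ne.2 h3.2) _ ((br' h3).not.1 h5) _ ((br' h3).1 h4)
    obtain ⟨j, j1, j2, j3⟩ := h.adj h3 (u := k⁻¹ • u + k⁻¹ • m)
      (fun e => h5 ((add_mem_cancel_right h4).1 (Or.inl e)))
      ((mk_eq_mk h.two).1 e1) ((mk_eq_mk h.two).1 e2)
    refine ⟨k * j * g * k⁻¹, ?_, ?_, ?_⟩ <;> simp only [mul_smul]
    · rw [inv_smul_smul, show (g : G) • x0 = x0 from g.2, j1]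
    · exact (congrArg (k • ·) j2).trans (smul_inv_smul _ _)
    · exact (congrArg (k • ·) j3).trans (by simp)
  · obtain ⟨g, rfl, rfl⟩ := h.tr _ _ _ _ hi hy
    exact ⟨g • z0, Or.inr ⟨g, rfl, rfl, rfl⟩, by rwa [smul_mem_ln2]⟩
  · obtain ⟨k, rfl⟩ := h.trans hi.1 h1.1
    have h4 := h1.smul k⁻¹
    have h5 := h2.smul k⁻¹
    have h6 := h3.smul k⁻¹
    have h7 := eqv k⁻¹ _ _ _ hu
    rw [inv_smul_smul] at h4 h5 h6 h7
    rw [smul_add] at h6 h7
    obtain ⟨p, hp, q, hq, e⟩ := mem_sup.1 (sub0 _ _ h4 h5 h6 h7)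
    refine mem_sup.2 ⟨k • p, by simpa using eqv k _ _ _ hp, k • q, by simpa using eqv k _ _ _ hq, ?_⟩
    rw [← smul_add, e, smul_inv_smul]
  · intro hb t c u b h16 ht h1 h2 h3 h4 h5 h6 h7
    have cd : ∀ w ≠ 0, ∀ w' ≠ 0, Nat.card (F w) ≤ Nat.card (F w') := fun w hw w' hw' => by
      obtain ⟨g, rfl⟩ := ha.trans hw hw'
      exact card_le_of_smul g (hF.eqv g w)
    refine false_of_blocks ha.two F hF.self ?_
      (fun w hw w' hw' => le_antisymm (cd w hw w' hw') (cd w' hw' w hw))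
      (fun w hw w' hw' => ha.subadd hF hw hw') hF.eqv (w0 := y0) (c := c) (u0 := u) (b0 := b)
      (t := ⟨t, ht⟩) (h.mk_ne.2 hi.2) ?_ ?_ ((br' hi).1 h2)
      (fun e => h3 ((QuotientAddGroup.eq_zero_iff c).1 e)) ((br' hi).1 h4)
      ((mk_eq_mk h.two (u := t • b) (v := b + c)).2 h5) ((br' hi).not.1 h6) ((br' hi).1 h7)
    · intro w hw y hy y0
      obtain ⟨w, rfl⟩ := QuotientAddGroup.mk_surjective w
      obtain ⟨y, rfl⟩ := QuotientAddGroup.mk_surjective y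
      by_cases e : (y : V ⧸ ln1 h.two x0) = w
      · rw [e]
      · have i1 : I2 x0 w := ⟨hi.1, h.mk_ne.1 hw⟩
        have i2 : I2 x0 y := ⟨hi.1, h.mk_ne.1 y0⟩
        have := hb x0 w y i1 ((br' i1).2 hy) (ne.2 ⟨y0, e⟩)
        ext v
        obtain ⟨v, rfl⟩ := QuotientAddGroup.mk_surjective v
        rw [← br' i1, ← br' i2, this]
    · have e : S x0 y0 = (F y0).comap (QuotientAddGroup.mk' _) := AddSubgroup.ext fun _ => br' hi
      rw [e, card_comap_mk, card_ln1 _ hi.1] at h16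
      omega
    · intro v hv
      obtain ⟨v, rfl⟩ := QuotientAddGroup.mk_surjective v
      exact (h1 v ((br' hi).2 hv)).imp (mk_eq_mk h.two (u := t • v) (v := v)).2
        (mk_eq_mk h.two (u := t • v) (v := v + c)).2

end Cfsg.Agent.AF
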