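import Cfsg.Agent.Lib.AF.TwoB

/-!
# Doubly transitive linear groups over the field with two elements, part C
-/

set_option autoImplicit false
set_option linter.unusedSectionVars false

namespace Cfsg.Agent.AF

open Finset MulAction AddSubgroup

universe u v

variable {V : Type u} [AddCommGroup V] [Finite V] {G : Type v} [Group G] [Finite G]
  [DistribMulAction G V]

/-- transitivity on independent triples -/
def P3 (h : TT G V) : Prop := ∀ x y z x' y' z' : V, I2 x y → I2 x' y' → z ∉ ln2 h.two x y →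
  z' ∉ ln2 h.two x' y' → ∃ g : G, g • x = x' ∧ g • y = y' ∧ g • z = z'

/-- point stabilizers induce all transvections on the quotient -/
def PT (h : TT G V) : Prop := ∀ x ≠ 0, ∀ (c : V) (l : V →+ ZMod 2), l x = 0 → l c = 0 →
  ∃ g : G, g • x = x ∧ ∀ v, g • v + (v + sm (l v) c) ∈ ln1 h.two x

/-- induction hypothesis -/
def IH (V : Type u) : Prop := ∀ (V' : Type u) [AddCommGroup V'] [Finite V'] (G' : Type v)
  [Group G'] [Finite G'] [DistribMulAction G' V'], Nat.card V' < Nat.card V →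
  ∀ h : TT G' V', P3 h ∧ PT h

/-- stabilizer of a subgroup -/
def St (G : Type v) [Group G] [DistribMulAction G V] (A : AddSubgroup V) : Subgroup G where
  carrier := {g | ∀ v, g • v ∈ A ↔ v ∈ A}
  one_mem' := by simp
  mul_mem' := fun {a b} ha hb v => by rw [mul_smul, ha, hb]
  inv_mem' := fun {a} ha v => by rw [← ha, smul_inv_smul]

theorem idx2 {A B : AddSubgroup V} (h : A ≤ B) (hc : Nat.card B = 2 * Nat.card A) {a b : V}
    (ha : a ∈ B) (hb : b ∈ B) (ha' : a ∉ A) (hb' : b ∉ A) : a + b ∈ A := by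
  have e : (A.addSubgroupOf B).index = 2 := by
    have := card_mul_rel h
    rw [hc, mul_comm 2] at this
    exact Nat.eq_of_mul_eq_mul_left Nat.card_pos this
  exact (add_mem_iff_of_index_two e (a := ⟨a, ha⟩) (b := ⟨b, hb⟩)).2 (iff_of_false ha' hb')

theorem card_ln2 (h2 : ∀ v : V, v + v = 0) {x y : V} (h : I2 x y) : Nat.card (ln2 h2 x y) = 4 := by
  have e := two_mul_card_le (A := ln1 h2 x) (B := ln2 h2 x y)
    (fun u hu => hu.elim Or.inl fun e => Or.inr (Or.inl e)) (v := y) (by simp [mem_ln2])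
    (by rw [mem_ln1, not_or]; exact h.2)
  rw [card_ln1 h2 h.1] at e
  refine le_antisymm ?_ e
  rw [← SetLike.coe_sort_coe, Nat.card_coe_set_eq]
  exact ncard_le_four 0 x y (x + y)

theorem blocks (h : TT G V) (ih : IH.{u, v} V) (O : V → V → AddSubgroup V)
    (eqv : ∀ (g : G) x y u, u ∈ O x y → g • u ∈ O (g • x) (g • y))
    (sw : ∀ x y, I2 x y → O y x = O x y)
    (cl : ∀ x y u, I2 x y → u ∈ O x y → u ≠ 0 → u ≠ x → O x u = O x y)
    {x y : V} (hi : I2 x y) (hx : x ∈ O x y) (hy : y ∈ O x y) (hne : O x y ≠ ⊤) :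
    (∀ z ∈ O x y, ∀ z' ∈ O x y, z ∉ ln2 h.two x y → z' ∉ ln2 h.two x y →
      ∃ g : G, g • x = x ∧ g • y = y ∧ g • z = z') ∧
    ∀ c ∈ O x y, ∀ l : V →+ ZMod 2, l x = 0 → l c = 0 →
      ∃ g : G, g • x = x ∧ ∀ v ∈ O x y, g • v + (v + sm (l v) c) ∈ ln1 h.two x := by
  letI := subAct (K := St G (O x y)) (O x y) fun g a ha => (g.2 a).2 ha
  have e : ∀ a ∈ O x y, ∀ b ∈ O x y, I2 a b → O a b = O x y := fun a ha b hb hab => by
    by_cases e : a = x
    · subst e
      exact cl a y b hi hb hab.2.1 hab.2.2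
    · have i1 : I2 x a := ⟨hi.1, hab.1, e⟩
      have e1 : O a x = O x y := (sw x a i1).trans (cl x y a hi ha hab.1 e)
      rw [cl a x b i1.symm (e1 ▸ hb) hab.2.1 hab.2.2, e1]
  have i2 : ∀ {a b : O x y}, I2 a b ↔ I2 (a : V) b := by
    intro a b
    unfold I2
    simp only [ne_eq, Subtype.ext_iff, ZeroMemClass.coe_zero]
  have ht : TT (St G (O x y)) (O x y) := ⟨fun v => Subtype.ext (h.two _), fun a b a' b' h1 h2 => by
    obtain ⟨g, g1, g2⟩ := h.tr _ _ _ _ (i2.1 h1) (i2.1 h2)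
    refine ⟨⟨g, fun v => ⟨fun hv => ?_, fun hv => ?_⟩⟩, Subtype.ext g1, Subtype.ext g2⟩
    · have := eqv g⁻¹ _ _ _ (e _ a'.2 _ b'.2 (i2.1 h2) ▸ hv)
      rwa [← g1, ← g2, inv_smul_smul, inv_smul_smul, inv_smul_smul, e _ a.2 _ b.2 (i2.1 h1)] at this
    · have := eqv g _ _ _ (e _ a.2 _ b.2 (i2.1 h1) ▸ hv)
      rwa [g1, g2, e _ a'.2 _ b'.2 (i2.1 h2)] at this⟩
  obtain ⟨p1, p2⟩ := ih (O x y) (St G (O x y)) (by
    obtain ⟨v, hv⟩ := SetLike.exists_of_lt (lt_top_iff_ne_top.2 hne)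
    have := two_mul_card_le le_top hv.1 hv.2
    have : 0 < Nat.card (O x y) := Nat.card_pos
    rw [card_top] at *
    omega) ht
  refine ⟨fun z hz z' hz' h1 h2 => ?_, fun c hc l h1 h2 => ?_⟩
  · obtain ⟨g, g1, g2, g3⟩ := p1 ⟨x, hx⟩ ⟨y, hy⟩ ⟨z, hz⟩ ⟨x, hx⟩ ⟨y, hy⟩ ⟨z', hz'⟩ (i2.2 hi) (i2.2 hi)
      (by simpa [mem_ln2, Subtype.ext_iff] using h1) (by simpa [mem_ln2, Subtype.ext_iff] using h2)
    exact ⟨g, congrArg Subtype.val g1, congrArg Subtype.val g2, congrArg Subtype.val g3⟩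
  · obtain ⟨g, g1, g2⟩ := p2 ⟨x, hx⟩ (fun e => hi.1 (congrArg Subtype.val e)) ⟨c, hc⟩
      (l.comp (O x y).subtype) h1 h2
    refine ⟨g, congrArg Subtype.val g1, fun v hv => ?_⟩
    have := (g2 ⟨v, hv⟩).imp (congrArg Subtype.val) (congrArg Subtype.val)
    have e : ((sm (l v) (⟨c, hc⟩ : O x y) : O x y) : V) = sm (l v) c := by
      unfold sm; split_ifs <;> rfl
    rw [← e]
    exact this

namespace Tri

variable {h : TT G V} {S : V → V → AddSubgroup V}

theorem m1 (hS : Tri h S) (x y : V) : x ∈ S x y := hS.le x y (by simp [mem_ln2])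
theorem m2 (hS : Tri h S) (x y : V) : y ∈ S x y := hS.le x y (by simp [mem_ln2])

theorem eqv' (hS : Tri h S) (g : G) {x y u : V} : g • u ∈ S (g • x) (g • y) ↔ u ∈ S x y :=
  ⟨fun hu => by simpa using hS.eqv g⁻¹ _ _ _ hu, hS.eqv g x y u⟩

theorem crd (hS : Tri h S) {x y x' y' : V} (h1 : I2 x y) (h2 : I2 x' y') :
    Nat.card (S x y) = Nat.card (S x' y') := by
  obtain ⟨g, rfl, rfl⟩ := h.tr _ _ _ _ h1 h2
  exact le_antisymm (card_le_of_smul g (hS.eqv g x y))
    (card_le_of_smul g⁻¹ fun u hu => (hS.eqv' g).1 (by simpa using hu))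

theorem crd2 (hS : Tri h S) (g : G) (x y z : V) :
    Nat.card ↥(S (g • x) (g • y) ⊓ S (g • x) (g • z)) = Nat.card ↥(S x y ⊓ S x z) :=
  le_antisymm (card_le_of_smul g⁻¹ fun u hu => ⟨(hS.eqv' g).1 (by simpa using hu.1),
    (hS.eqv' g).1 (by simpa using hu.2)⟩)
    (card_le_of_smul g fun u hu => ⟨hS.eqv g _ _ _ hu.1, hS.eqv g _ _ _ hu.2⟩)

theorem eight_le (hS : Tri h S) {x y : V} (hi : I2 x y) : 8 ≤ Nat.card (S x y) := by
  obtain ⟨z, hz, hz'⟩ := hS.big x y hi
  have := two_mul_card_le (hS.le x y) hz hz'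
  rwa [card_ln2 _ hi] at this

theorem nm (hS : Tri h S) {x y u : V} (hi : I2 x y) (hu : u ∉ S x y) : I2 x u ∧ y ∉ S x u :=
  have h1 := hi.third fun e => hu (hS.le x y e)
  ⟨h1.1, fun e => hu (hS.sym x u y h1.1 e h1.2)⟩

theorem cl_of_blk (hS : Tri h S)
    (hb : ∀ x y z, I2 x y → z ∈ S x y → z ∉ ln2 h.two x y → S x z = S x y) (x y u : V)
    (hi : I2 x y) (hu : u ∈ S x y) (h0 : u ≠ 0) (h1 : u ≠ x) : S x u = S x y := by
  by_cases hu' : u ∈ ln2 h.two x y
  · rcases hu' with e | e | e | e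
    · exact absurd e h0
    · exact absurd e h1
    · rw [e]
    · rw [e, add_comm, hS.ad x y hi]
  · exact hb x y u hi hu hu'

theorem false_of_eight (hS : Tri h S)
    (cl : ∀ x y u, I2 x y → u ∈ S x y → u ≠ 0 → u ≠ x → S x u = S x y)
    (h8 : ∀ x y, I2 x y → Nat.card (S x y) = 8) {v y u : V} (hi : I2 v y) (hu : u ∉ S v y) :
    False := by
  classical
  obtain ⟨l, l1, l2⟩ : ∃ l : V →+ ZMod 2, l y = 0 ∧ l v = 1 := (pr_ev h.two).sep1 hi.1 hi.2.2.symm
  have ix : ∀ x y a b, I2 x y → a ∈ S x y → b ∈ S x y → a ∉ ln2 h.two x y → b ∉ ln2 h.two x y →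
      a + b ∈ ln2 h.two x y := fun x y a b hi ha hb =>
    idx2 (hS.le x y) (by rw [h8 x y hi, card_ln2 _ hi]) ha hb
  have iv : ∀ e, l e = 0 → e ≠ 0 → I2 v e := fun e h1 h2 =>
    ⟨hi.1, h2, fun e' => by simp [e', l2] at h1⟩
  have lz : ∀ x y t, l x = 0 → l y = 0 → t ∈ ln2 h.two x y → l t = 0 := by
    rintro x y _ h1 h2 (rfl | rfl | rfl | rfl) <;> simp [*]
  let P : V → V → Prop := fun e e' => I2 e e' ∧ ∃ t ∈ S e e', l t = 1
  have P1 : ∀ x y z, ¬ P x y → ¬ P x z → ¬ P x (y + z) := by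
    rintro x y z h1 h2 ⟨i, t, ht, lt⟩
    have := h.two x
    by_cases i1 : I2 x y
    · by_cases i2 : I2 x z
      · obtain ⟨p, hp, q, hq, rfl⟩ := mem_sup.1 (hS.sub x y z i1 i2 i ht)
        rw [map_add, z2_zero fun e => h1 ⟨i1, p, hp, e⟩, z2_zero fun e => h2 ⟨i2, q, hq, e⟩] at lt
        simp at lt
      · refine h1 ⟨i1, t, ?_, lt⟩
        obtain rfl | rfl : z = 0 ∨ z = x := by unfold I2 at *; grind
        · simpa using ht
        · rwa [hS.ad _ _ i1] at ht
    · have i2 : I2 x z := by unfold I2 at *; grind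
      refine h2 ⟨i2, t, ?_, lt⟩
      obtain rfl | rfl : y = 0 ∨ y = x := by unfold I2 at *; grind
      · simpa using ht
      · rwa [add_comm, hS.ad _ _ i2] at ht
  have P2 : ∀ x y z, l x = 0 → l y = 0 → l z = 0 → P x y → P x z → ¬ P x (y + z) := by
    rintro x y z lx ly lz' ⟨i1, t1, a1, b1⟩ ⟨i2, t2, a2, b2⟩ ⟨i, t, ht, lt⟩
    have sp : ∀ x y t1, I2 x y → l x = 0 → l y = 0 → t1 ∈ S x y → l t1 = 1 → ∀ p ∈ S x y,
        l p = 0 → p ∈ ln2 h.two x y := fun x y t1 i lx ly a1 b1 p hp lp => by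
      by_contra hn
      have := lz x y _ lx ly (ix x y p t1 i hp a1 hn fun e => by simp [lz x y _ lx ly e] at b1)
      simp [lp, b1] at this
    have key : ∀ y z, l y = 0 → l z = 0 → I2 x y → I2 x z → I2 x (y + z) → ∀ t2 ∈ S x z,
        l t2 = 1 → ∀ p ∈ ln2 h.two x y, ∀ q ∈ S x z, l q = 1 → p + q ∉ S x (y + z) := by
      intro y z ly lz' i1 i2 i t2 a2 b2 p hp q hq lq ht
      have k1 := h.two x; have k2 := h.two y; have k3 := h.two z
      have n : ∀ t, l t = 1 → t ∈ S x z → t ∈ S x (y + z) → False := fun t lt c1 c2 => by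
        have t0 : t ≠ 0 := by rintro rfl; simp at lt
        have tx : t ≠ x := by rintro rfl; simp [lx] at lt
        have := sp x z t2 i2 lx lz' a2 b2 (y + z) (by
          rw [← cl x z t i2 c1 t0 tx, cl x _ t i c2 t0 tx]; exact hS.m2 _ _) (by simp [ly, lz'])
        clear * - this i i1 k1 k2 k3
        simp only [I2, mem_ln2] at *
        grind
      rcases hp with rfl | rfl | rfl | rfl
      · exact n q lq hq (by simpa using ht)
      · exact n q lq hq ((add_mem_cancel_left (hS.m1 _ _)).1 ht)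
      · exact n (q + z) (by simp [lq, lz']) (add_mem hq (hS.m2 _ _))
          (by convert add_mem ht (hS.m2 x (p + z)) using 1; clear * - k2; grind)
      · exact n (q + z) (by simp [lq, lz']) (add_mem hq (hS.m2 _ _))
          (by convert add_mem (add_mem ht (hS.m2 x (y + z))) (hS.m1 x _) using 1
              clear * - k1 k2; grind)
    obtain ⟨p, hp, q, hq, rfl⟩ := mem_sup.1 (hS.sub x y z i1 i2 i ht)
    rcases z2_cases (l p) with e | e
    · exact key y z ly lz' i1 i2 i t2 a2 b2 p (sp x y t1 i1 lx ly a1 b1 p hp e) q hq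
        (by simpa [e] using lt) ht
    · exact key z y lz' ly i2 i1 (add_comm y z ▸ i) t1 a1 b1 q
        (sp x z t2 i2 lx lz' a2 b2 q hq (by simpa [e] using lt)) p hp e
        (by rwa [add_comm q, add_comm z])
  refine false_of_lines h.two l.ker (fun e => S v e ⊓ l.ker) (fun e e' => if P e e' then 1 else 0)
    (fun e he e0 => ?_) (fun e he e0 y hy y0 => ?_) (fun a ha b hb a0 b0 c0 t ht => ?_)
    (fun a ha b hb c hc => ?_) (fun a _ b _ => if_congr ?_ rfl rfl)
    (fun a ha a0 b hb b0 b1 => if_pos ⟨⟨a0, b0, b1⟩, v, ?_, l2⟩) (e1 := y)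
    (e3 := u + sm (l u) v) l1 ?_ hi.2.1 fun e => hu ?_
  · have i := iv e he e0
    obtain ⟨z, hz, hz'⟩ := hS.big v e i
    obtain ⟨z, hz, hz', lz'⟩ : ∃ z ∈ S v e, z ∉ ln2 h.two v e ∧ l z = 0 := by
      rcases z2_cases (l z) with e1 | e1
      · exact ⟨z, hz, hz', e1⟩
      · exact ⟨z + v, add_mem hz (hS.m1 _ _), fun e => hz' ((add_mem_cancel_right
          (by simp [mem_ln2])).1 e), by simp [e1, l2, z2_two]⟩
    refine ⟨z, lz', fun e => hz' (Or.inl e), fun e => hz' (by simp [mem_ln2, e]), ?_⟩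
    have he' : l e = 0 := he
    have k : ∀ t ∈ ln2 h.two v e, l t = 0 → t = 0 ∨ t = e := by
      rintro _ (rfl | rfl | rfl | rfl) h1 <;> simp_all
    refine le_antisymm (fun t ht => ?_) ?_
    · by_cases h1 : t ∈ ln2 h.two v e
      · exact (k t h1 ht.2).imp_right Or.inl
      · have k1 := k _ (ix v e t z i ht.1 hz h1 hz') (by rw [map_add, lz', add_zero]; exact ht.2)
        have k2 := h.two z
        rw [mem_ln2]
        clear * - k1 k2
        grind
    · rintro _ (rfl | rfl | rfl | rfl)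
      exacts [zero_mem _, ⟨hS.m2 _ _, he⟩, ⟨hz, lz'⟩, add_mem ⟨hS.m2 _ _, he⟩ ⟨hz, lz'⟩]
  · simp only [cl v e y (iv e he e0) hy.1 y0 (iv y hy.2 y0).2.2]
  · obtain ⟨p, hp, q, hq, rfl⟩ := mem_sup.1 (hS.sub v a b (iv a ha a0) (iv b hb b0)
      (iv _ (add_mem ha hb) c0) ht.1)
    have e : l p + l q = 0 := (map_add l p q).symm.trans ht.2
    rcases z2_cases (l p) with e1 | e1
    · exact add_mem (mem_sup_left ⟨hp, e1⟩) (mem_sup_right ⟨hq, by simpa [e1] using e⟩)
    · have e2 : l q = 1 := z2_one fun e2 => by simp [e1, e2] at e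
      refine mem_sup.2 ⟨p + v, ⟨add_mem hp (hS.m1 _ _), ?_⟩, q + v, ⟨add_mem hq (hS.m1 _ _), ?_⟩,
        by linear_combination (norm := abel1) h.two v⟩ <;> simp [e1, e2, l2, z2_two]
  · have k1 := h.two b; have k2 := h.two c
    by_cases h1 : P a b <;> by_cases h2 : P a c
    · rw [if_neg (P2 a b c ha hb hc h1 h2), if_pos h1, if_pos h2, z2_two]
    · rw [if_pos h1, if_neg h2, add_zero, if_pos]
      by_contra h3
      exact P1 a _ _ h3 h2 (by rwa [add_assoc, k2, add_zero])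
    · rw [if_pos h2, if_neg h1, zero_add, if_pos]
      by_contra h3
      exact P1 a _ _ h1 h3 (by rwa [← add_assoc, k1, zero_add])
    · rw [if_neg (P1 a b c h1 h2), if_neg h1, if_neg h2, add_zero]
  · exact ⟨fun ⟨i, t, ht⟩ => ⟨i.symm, t, hS.sw a b i ▸ ht⟩,
      fun ⟨i, t, ht⟩ => ⟨i.symm, t, hS.sw b a i ▸ ht⟩⟩
  · have i := iv a ha a0
    rw [cl a v b i.symm (hS.sw v a i ▸ hb.1) b0 b1]
    exact hS.m2 _ _
  · rcases z2_cases (l u) with e | e <;> simp [e, l2, z2_two]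
  · refine (add_mem_cancel_right ?_).1 e.1
    unfold sm; split_ifs
    exacts [zero_mem _, hS.m1 _ _]

theorem false_of_blk (hS : Tri h S) (ih : IH.{u, v} V)
    (hb : ∀ x y z, I2 x y → z ∈ S x y → z ∉ ln2 h.two x y → S x z = S x y)
    (hne : ∀ x y, I2 x y → ∃ u, u ∉ S x y) : False := by
  obtain ⟨x, y, hi, hx⟩ := hS.blk
  obtain ⟨u, hu⟩ := hne x y hi
  have cl := hS.cl_of_blk hb
  by_cases h8 : Nat.card (S x y) = 8
  · exact hS.false_of_eight cl (fun a b i => (hS.crd i hi).trans h8) hi hu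
  have h16 : 16 ≤ Nat.card (S x y) := by
    obtain ⟨n, hn⟩ := card_sub_pow h.two (S x y)
    have := hS.eight_le hi
    rw [hn] at h8 this ⊢
    have h4 : 4 ≤ n := by
      by_contra h4
      interval_cases n <;> omega
    exact Nat.pow_le_pow_right (n := 2) (by norm_num) h4
  obtain ⟨z, hz, hz'⟩ := hS.big x y hi
  obtain ⟨l, l1, l2⟩ := exists_dual h.two _ hz'
  obtain ⟨g, g1, g2⟩ := (blocks h ih S hS.eqv hS.sw cl hi (hS.m1 x y) (hS.m2 x y)
    (fun e => hu (e ▸ mem_top u))).2 y (hS.m2 x y) l (l1 x (by simp [mem_ln2]))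
    (l1 y (by simp [mem_ln2]))
  have lx : ∀ t ∈ ln1 h.two x, t ∈ S x y ∧ l t = 0 ∧ g • t = t := by
    rintro _ (rfl | rfl)
    exacts [⟨zero_mem _, map_zero _, smul_zero _⟩, ⟨hS.m1 _ _, l1 _ (by simp [mem_ln2]), g1⟩]
  have sy : ∀ a, sm a y ∈ S x y ∧ l (sm a y) = 0 := fun a => by
    unfold sm; split_ifs
    exacts [⟨zero_mem _, map_zero _⟩, ⟨hS.m2 _ _, l1 _ (by simp [mem_ln2])⟩]
  have pw : ∀ k : ℕ, ∀ v ∈ S x y, (g ^ k) • v + (v + sm (k * l v) y) ∈ ln1 h.two x := by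
    intro k v hv
    induction k with
    | zero => simp [h.two]
    | succ k ik =>
      have a1 := add_mem hv (sy (k * l v)).1
      have a2 := g2 _ a1
      rw [map_add, (sy _).2, add_zero] at a2
      have a3 := (lx _ ik).2.2
      rw [smul_add] at a3
      rw [pow_succ', mul_smul, Nat.cast_succ, add_mul, one_mul, sm_add h.two]
      convert add_mem ik a2 using 1
      have k1 := h.two (g • (v + sm (k * l v) y))
      clear * - a3 k1
      grind
  obtain ⟨a, k, hk, e⟩ := Nat.exists_eq_two_pow_mul_odd (orderOf_pos g).ne'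
  have hk' : (k : ZMod 2) = 1 := by
    obtain ⟨m, rfl⟩ := hk
    push_cast
    rw [show (2 : ZMod 2) = 0 from rfl]; simp
  have pk := pw k
  simp only [hk', one_mul] at pk
  have t1 : (g ^ k) • x = x := pow_mem (show g ∈ stabilizer G x from g1) k
  have t2 : Subgroup.zpowers (g ^ k) ≤ St G (S x y) := Subgroup.zpowers_le.2 (pow_mem (fun v => by
    have e : g • y ∈ S x y := by
      have := add_mem (lx _ (g2 y (hS.m2 _ _))).1 (add_mem (hS.m2 x y) (sy (l y)).1)
      rwa [add_assoc, h.two, add_zero] at this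
    have i := hi.smul g
    rw [g1] at i
    rw [← hS.eqv' g (u := v), g1, cl x y _ hi e i.2.1 i.2.2]) k)
  obtain ⟨u, hu, hu'⟩ := exists_fixed_mod h.two (T := Subgroup.zpowers (g ^ k))
    (IsPGroup.of_card_dvd_pow (n := a) (by
      rw [Nat.card_zpowers, orderOf_dvd_iff_pow_eq_one, ← pow_mul, mul_comm, ← e,
        pow_orderOf_eq_one])) (S x y) (fun t ht v hv => (t2 ht v).2 hv) hu
  refine hx hb (g ^ k) y u z h16 t1 (fun b hb => ?_) (hS.m2 _ _) (by
    rw [mem_ln1, not_or]; exact hi.2) hz (by simpa [l2] using pk z hz) hu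
    (hu' _ (Subgroup.mem_zpowers _))
  have := pk b hb
  rcases z2_cases (l b) with e | e <;> rw [e] at this
  · exact Or.inl (by simpa using this)
  · exact Or.inr this

end Tri

end Cfsg.Agent.AF
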