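import Cfsg.Agent.Lib.AF.TwoC

/-!
# Doubly transitive linear groups over the field with two elements, part D
-/

set_option autoImplicit false
set_option linter.unusedSectionVars false

namespace Cfsg.Agent.AF

open Finset MulAction AddSubgroup

universe u v

variable {V : Type u} [AddCommGroup V] [Finite V] {G : Type v} [Group G] [Finite G]
  [DistribMulAction G V]

theorem card_dvd_ncard (A : AddSubgroup V) (X : Set V) (h : ∀ u ∈ X, ∀ m ∈ A, u + m ∈ X) :
    Nat.card A ∣ X.ncard := by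
  have e : X = QuotientAddGroup.mk ⁻¹' ((QuotientAddGroup.mk : V → V ⧸ A) '' X) := by
    ext u
    refine ⟨fun hu => ⟨u, hu, rfl⟩, fun ⟨w, hw, e⟩ => ?_⟩
    simpa using h w hw _ (QuotientAddGroup.eq.1 e)
  rw [e, ← Nat.card_coe_set_eq, 
    Nat.card_congr (QuotientAddGroup.preimageMkEquivAddSubgroupProdSet _ _), Nat.card_prod]
  exact dvd_mul_right _ _

theorem card_dvd_sum [Fintype V] (A : AddSubgroup V) (f : V → ℕ)
    (h : ∀ u, ∀ m ∈ A, f (u + m) = f u) : Nat.card A ∣ ∑ u, f u := by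
  classical
  rw [show ∑ u, f u = ∑ u, id (f u) from rfl, Finset.sum_comp id f]
  refine dvd_sum fun k _ => Dvd.dvd.mul_right ?_ _
  rw [← Set.ncard_coe_finset]
  exact card_dvd_ncard A _ fun u hu m hm => by simpa [h u m hm] using hu

theorem card_diff (A B : AddSubgroup V) (s : Finset V) (hs : ∀ u, u ∈ s ↔ u ∈ A ∧ u ∉ B) :
    #s + Nat.card ↥(A ⊓ B) = Nat.card A := by
  have e : (s : Set V) = (A : Set V) \ B := Set.ext fun u => hs u
  rw [← Set.ncard_coe_finset, e, ← SetLike.coe_sort_coe, ← SetLike.coe_sort_coe A,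
    Nat.card_coe_set_eq, Nat.card_coe_set_eq, coe_inf, add_comm]
  exact Set.ncard_inter_add_ncard_sdiff_eq_ncard _ _

theorem num_half {a b : ℕ} (ha : 3 ≤ a) (hb : b < a)
    (h : 2 * 2 ^ a ∣ (2 ^ a - 4) * (2 ^ a - 2 ^ b)) : a = b + 1 := by
  obtain ⟨c, rfl⟩ := Nat.exists_eq_add_of_lt hb
  obtain ⟨e, he⟩ : ∃ e, b + c + 1 = e + 3 := ⟨b + c + 1 - 3, by omega⟩
  have o : ∀ k : ℕ, Odd (2 ^ (k + 1) - 1) := fun k =>
    Nat.Even.sub_odd Nat.one_le_two_pow (by simp [pow_succ]) odd_one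
  have e1 : 2 ^ (b + c + 1) - 4 = 4 * (2 ^ (e + 1) - 1) := by
    rw [he, Nat.mul_sub]; congr 1; ring
  have e2 : 2 ^ (b + c + 1) - 2 ^ b = 2 ^ b * (2 ^ (c + 1) - 1) := by
    rw [Nat.mul_sub, mul_one]; congr 1; ring
  rw [e1, e2, show 4 * (2 ^ (e + 1) - 1) * (2 ^ b * (2 ^ (c + 1) - 1)) =
    2 ^ (b + 2) * ((2 ^ (e + 1) - 1) * (2 ^ (c + 1) - 1)) by ring, ← pow_succ'] at h
  have := (Nat.pow_dvd_pow_iff_le_right (by norm_num)).1
    ((Nat.Coprime.pow_left _ (Nat.coprime_two_left.2 ((o e).mul (o c)))).dvd_of_dvd_mul_right h)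
  omega

theorem num_16 {a n : ℕ} (h : n * (2 ^ (a + 2) - 2) = (2 ^ (a + 4) - 4) * 2 ^ (a + 3)) :
    a = 0 := by
  obtain ⟨m, hm⟩ : ∃ m, 2 ^ (a + 1) = m + 1 := ⟨2 ^ (a + 1) - 1, by
    have := Nat.one_le_two_pow (n := a + 1); omega⟩
  have o : Odd m := by
    have : Even (m + 1) := by rw [← hm]; simp [pow_succ]
    simpa [Nat.even_add_one] using this
  have e1 : 2 ^ (a + 2) - 2 = 2 * m := by rw [pow_succ, hm]; omega
  have e2 : 2 ^ (a + 4) - 4 = 4 * (2 * m + 1) := by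
    rw [show 2 ^ (a + 4) = 2 ^ (a + 1) * 8 by ring, hm]; omega
  rw [e1, e2] at h
  have h1 : m ∣ 2 ^ (a + 5) * (2 * m + 1) := ⟨n * 2, by linear_combination -h⟩
  have h2 := (Nat.Coprime.pow_right _ (Nat.coprime_two_right.2 o)).dvd_of_dvd_mul_left h1
  have h3 : m = 1 := Nat.dvd_one.1 ((Nat.dvd_add_right (dvd_mul_left m 2)).1 h2)
  rw [h3, pow_succ] at hm
  have : 2 ^ a = 1 := by omega
  simpa using this

/-- union of the subspaces through the neighbouring lines -/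
def Om (h : TT G V) (S : V → V → AddSubgroup V) (x y : V) : Set V :=
  {u | u ∈ S x y ∨ ∃ z ∈ S x y, z ∉ ln2 h.two x y ∧ u ∈ S x z}

namespace Tri

variable {h : TT G V} {S : V → V → AddSubgroup V}

theorem om_eqv (hS : Tri h S) (g : G) {x y u : V} (hu : u ∈ Om h S x y) :
    g • u ∈ Om h S (g • x) (g • y) :=
  hu.imp (hS.eqv g _ _ _) fun ⟨z, a, b, c⟩ =>
    ⟨g • z, hS.eqv g _ _ _ a, by rwa [smul_mem_ln2], hS.eqv g _ _ _ c⟩

theorem om_sw (hS : Tri h S) {x y u : V} (hi : I2 x y) (hu : u ∈ Om h S x y) : u ∈ Om h S y x := by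
  by_cases h1 : u ∈ ln2 h.two x y
  · exact Or.inl (hS.le _ _ (ln2_comm x y ▸ h1))
  · obtain ⟨g, g1, g2, g3⟩ := h.opS hi h1
    have := hS.om_eqv g hu
    rwa [g1, g2, g3] at this

theorem om_ad (hS : Tri h S) {x y u : V} (hi : I2 x y) (hu : u ∈ Om h S x y) :
    u ∈ Om h S x (y + x) := by
  by_cases h1 : u ∈ ln2 h.two x y
  · exact Or.inl (hS.le _ _ (ln2_add x y ▸ h1))
  · obtain ⟨g, g1, g2, g3⟩ := h.opA hi h1
    have := hS.om_eqv g hu
    rwa [g1, g2, g3] at this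

theorem om_per (hS : Tri h S) {x y u m : V} (hi : I2 x y) (hu : u ∈ Om h S x y) (hm : m ∈ S x y) :
    u + m ∈ Om h S x y := by
  by_cases h1 : u ∈ S x y
  · exact Or.inl (add_mem h1 hm)
  · obtain ⟨g, g1, g2, g3⟩ := hS.per x y u m hi h1 hm
    have := hS.om_eqv g hu
    rwa [g1, g2, g3] at this

theorem crd3 (hS : Tri h S) {x y z x' y' z' : V} (hi : I2 x y) (hi' : I2 x' y') (a : z ∈ S x y)
    (b : z ∉ ln2 h.two x y) (a' : z' ∈ S x' y') (b' : z' ∉ ln2 h.two x' y') :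
    Nat.card ↥(S x' y' ⊓ S x' z') = Nat.card ↥(S x y ⊓ S x z) := by
  obtain ⟨g, rfl, rfl, rfl⟩ := hS.tr _ _ _ _ _ _ hi hi' a b a' b'
  exact hS.crd2 g x y z

theorem count [Fintype V] (hS : Tri h S) {x y z : V} (hi : I2 x y) (a : z ∈ S x y)
    (b : z ∉ ln2 h.two x y) (N : Finset V) (hN : ∀ u, u ∈ N ↔ u ∉ S x y ∧ u ∈ Om h S x y) :
    ∑ u ∈ N, (Nat.card ↥(S x y ⊓ S x u) - 2) =
      (Nat.card (S x y) - 4) * (Nat.card (S x y) - Nat.card ↥(S x y ⊓ S x z)) := by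
  classical
  have e := sum_card_bipartiteAbove_eq_sum_card_bipartiteBelow (fun t u => u ∈ S x t)
    (s := univ.filter fun t => t ∈ S x y ∧ t ∉ ln2 h.two x y) (t := N)
  rw [sum_congr rfl (g := fun _ => Nat.card (S x y) - Nat.card ↥(S x y ⊓ S x z)), sum_const,
    smul_eq_mul] at e
  · have e1 := card_diff (S x y) (ln2 h.two x y)
      (univ.filter fun t => t ∈ S x y ∧ t ∉ ln2 h.two x y) (by simp)
    rw [inf_eq_right.2 (hS.le x y), card_ln2 _ hi] at e1
    rw [show Nat.card (S x y) - 4 = _ from (Nat.eq_sub_of_add_eq e1).symm, e]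
    refine sum_congr rfl fun u hu => ?_
    obtain ⟨hu, -⟩ := (hN u).1 hu
    obtain ⟨i, hy⟩ := hS.nm hi hu
    have e2 := card_diff (S x y ⊓ S x u) (ln1 h.two x) (bipartiteBelow (fun t u => u ∈ S x t)
      (univ.filter fun t => t ∈ S x y ∧ t ∉ ln2 h.two x y) u) fun t => by
        simp only [mem_bipartiteBelow, mem_filter, mem_univ, true_and, AddSubgroup.mem_inf]
        refine ⟨fun ⟨⟨c1, c2⟩, c3⟩ => ⟨⟨c1, hS.sym x t u (hi.third c2).1 c3 fun e => hu ?_⟩,
          fun e => c2 (e.elim Or.inl fun e => Or.inr (Or.inl e))⟩, fun ⟨⟨c1, c2⟩, c3⟩ => ?_⟩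
        · rcases e with rfl | rfl | rfl | rfl
          exacts [zero_mem _, hS.m1 _ _, c1, add_mem (hS.m1 _ _) c1]
        · have c4 : t ∉ ln2 h.two x y := by
            rintro (rfl | rfl | rfl | rfl)
            exacts [c3 (Or.inl rfl), c3 (Or.inr rfl), hy c2,
              hy ((add_mem_cancel_left (hS.m1 _ _)).1 c2)]
          refine ⟨⟨c1, c4⟩, hS.sym x u t i c2 ?_⟩
          rintro (rfl | rfl | rfl | rfl)
          exacts [c3 (Or.inl rfl), c3 (Or.inr rfl), hu c1,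
            hu ((add_mem_cancel_left (hS.m1 _ _)).1 c1)]
    rw [inf_eq_right.2 (by rintro _ (rfl | rfl); exacts [zero_mem _, ⟨hS.m1 _ _, hS.m1 _ _⟩]),
      card_ln1 _ hi.1] at e2
    omega
  · intro t ht
    obtain ⟨c1, c2⟩ := (mem_filter.1 ht).2
    have e2 := card_diff (S x t) (S x y) (bipartiteAbove (fun t u => u ∈ S x t) N t) fun u => by
      rw [mem_bipartiteAbove, hN]
      exact ⟨fun c => ⟨c.2, c.1.1⟩, fun c => ⟨⟨c.2, Or.inr ⟨t, c1, c2, c.1⟩⟩, c.1⟩⟩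
    rw [inf_comm, hS.crd3 hi hi a b c1 c2, hS.crd (hi.third c2).1 hi] at e2
    omega

/-- the non-block case -/
def NB (h : TT G V) (S : V → V → AddSubgroup V) : Prop :=
  ∀ x y z, I2 x y → z ∈ S x y → z ∉ ln2 h.two x y → S x z ≠ S x y

theorem exists_nb (hS : Tri h S) (nb : NB h S) {x y z : V} (hi : I2 x y) (a : z ∈ S x y)
    (b : z ∉ ln2 h.two x y) : ∃ u ∈ S x z, u ∉ S x y := by
  by_contra hc
  push Not at hc
  exact nb x y z hi a b (eq_of_le_of_card_ge hc (hS.crd hi (hi.third b).1).le)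

theorem half (hS : Tri h S) (nb : NB h S) {x y z : V} (hi : I2 x y) (a : z ∈ S x y)
    (b : z ∉ ln2 h.two x y) : Nat.card (S x y) = 2 * Nat.card ↥(S x y ⊓ S x z) := by
  classical
  letI := Fintype.ofFinite V
  have e := hS.count hi a b (univ.filter fun u => u ∉ S x y ∧ u ∈ Om h S x y) (by simp)
  have d := card_dvd_sum (S x y) (fun u => if u ∉ S x y ∧ u ∈ Om h S x y then
    Nat.card ↥(S x y ⊓ S x u) / 2 - 1 else 0) fun u m hm => by
      by_cases hu : u ∈ S x y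
      · simp [hu, add_mem hu hm]
      · obtain ⟨g, g1, g2, g3⟩ := hS.per x y u m hi hu hm
        have e1 := hS.crd2 g x y u
        rw [g1, g2, g3] at e1
        refine if_congr (and_congr (add_mem_cancel_right hm).not
          ⟨fun c => ?_, fun c => hS.om_per hi c hm⟩) (by rw [e1]) rfl
        simpa [add_assoc, h.two] using hS.om_per hi c hm
  rw [← sum_filter] at d
  replace d := mul_dvd_mul_left 2 d
  rw [mul_sum, sum_congr rfl (g := fun u => Nat.card ↥(S x y ⊓ S x u) - 2), e] at d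
  · obtain ⟨p, hp⟩ := card_sub_pow h.two (S x y)
    obtain ⟨q, hq⟩ := card_sub_pow h.two (S x y ⊓ S x z)
    obtain ⟨u, u1, u2⟩ := hS.exists_nb nb (hi.third b).1 (hS.sym x y z hi a b) (hi.third b).2
    have e1 := two_mul_card_le (inf_le_left : S x y ⊓ S x z ≤ _) u1 fun c => u2 c.2
    have e2 := hS.eight_le hi
    rw [hp, hq] at d e1 ⊢
    rw [hp] at e2
    rw [num_half ((Nat.pow_le_pow_iff_right (by norm_num : 1 < 2)).1 e2)
      ((Nat.pow_le_pow_iff_right (by norm_num : 1 < 2)).1 (by rwa [pow_succ'])) d, pow_succ']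
  · intro u _
    have : 2 ∣ Nat.card ↥(S x y ⊓ S x u) := by
      rw [← card_ln1 h.two hi.1]
      exact card_dvd_of_le (by
        rintro _ (rfl | rfl); exacts [zero_mem _, ⟨hS.m1 _ _, hS.m1 _ _⟩])
    omega

theorem eight_le' (hS : Tri h S) {x y z : V} (hi : I2 x y) (a : z ∈ S x y)
    (b : z ∉ ln2 h.two x y) (B : AddSubgroup V) (h1 : x ∈ B) (h2 : y ∈ B) (h3 : z ∈ B) :
    8 ≤ Nat.card ↥(S x y ⊓ S x z ⊓ B) := by
  have := two_mul_card_le (A := ln2 h.two x y) (B := S x y ⊓ S x z ⊓ B) (by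
    have c1 : x ∈ S x y ⊓ S x z ⊓ B := ⟨⟨hS.m1 _ _, hS.m1 _ _⟩, h1⟩
    have c2 : y ∈ S x y ⊓ S x z ⊓ B := ⟨⟨hS.m2 _ _, hS.sym x y z hi a b⟩, h2⟩
    rintro _ (rfl | rfl | rfl | rfl)
    exacts [zero_mem _, c1, c2, add_mem c1 c2]) (v := z) ⟨⟨a, hS.m2 _ _⟩, h3⟩ b
  rwa [card_ln2 _ hi] at this

theorem dich (hS : Tri h S) (nb : NB h S) {x y : V} (hi : I2 x y) :
    (∃ u0, ∀ u ∈ Om h S x y, u ∉ S x y → u + u0 ∈ S x y) ∨
      (Nat.card (S x y) = 16 ∧ (Om h S x y).ncard = 64) := by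
  classical
  letI := Fintype.ofFinite V
  obtain ⟨z, a, b⟩ := hS.big x y hi
  set N := univ.filter fun u => u ∉ S x y ∧ u ∈ Om h S x y with hN
  have e := hS.count hi a b N (by simp [hN])
  have hh := hS.half nb hi a b
  have h8 := hS.eight_le' hi a b ⊤ trivial trivial trivial
  rw [inf_top_eq] at h8
  obtain ⟨q, hq⟩ := card_sub_pow h.two (S x y ⊓ S x z)
  obtain ⟨k, rfl⟩ : ∃ k, q = k + 3 := ⟨q - 3, by
    have := (Nat.pow_le_pow_iff_right (by norm_num : 1 < 2)).1 (show 2 ^ 3 ≤ 2 ^ q from hq ▸ h8)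
    omega⟩
  rw [hq] at hh
  rw [hq, hh, show 2 * 2 ^ (k + 3) - 2 ^ (k + 3) = 2 ^ (k + 3) by omega] at e
  have key : ∀ u ∈ N, Nat.card ↥(S x y ⊓ S x u) = 2 ^ (k + 2) ∨
      Nat.card ↥(S x y ⊓ S x u) = 2 ^ (k + 3) := fun u hu => by
    obtain ⟨u1, u2 | ⟨t, t1, t2, t3⟩⟩ := (mem_filter.1 hu).2
    · exact absurd u2 u1
    obtain ⟨i, hy⟩ := hS.nm hi u1
    obtain ⟨j, hj⟩ := card_sub_pow h.two (S x y ⊓ S x u)
    have e1 := two_mul_card_le (inf_le_left : S x y ⊓ S x u ≤ _) (hS.m2 x y) fun c => hy c.2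
    have it := hi.third t2
    have c : u ∉ ln2 h.two x t := by
      rintro (rfl | rfl | rfl | rfl)
      exacts [u1 (zero_mem _), u1 (hS.m1 _ _), u1 t1, u1 (add_mem (hS.m1 _ _) t1)]
    have e2 := card_sup_inf (S x t ⊓ S x y) (S x t ⊓ S x u)
    rw [hS.crd3 hi it.1 a b (hS.sym x y t hi t1 t2) it.2, hS.crd3 hi it.1 a b t3 c, hq] at e2
    have e3 : Nat.card ↥(S x t ⊓ S x y ⊔ S x t ⊓ S x u) ≤ 2 * 2 ^ (k + 3) := by
      rw [← hh, hS.crd hi it.1]; exact card_le_of_le (sup_le inf_le_left inf_le_left)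
    have e4 : Nat.card ↥(S x t ⊓ S x y ⊓ (S x t ⊓ S x u)) ≤ 2 ^ j := by
      rw [← hj]; exact card_le_of_le fun w hw => ⟨hw.1.2, hw.2.2⟩
    have e5 := Nat.mul_le_mul e3 e4
    rw [e2, ← pow_succ', ← pow_add, ← pow_add, Nat.pow_le_pow_iff_right (by norm_num)] at e5
    rw [hj, hh, ← pow_succ', ← pow_succ', Nat.pow_le_pow_iff_right (by norm_num)] at e1
    rw [hj]
    obtain rfl | rfl : j = k + 2 ∨ j = k + 3 := by omega
    exacts [Or.inl rfl, Or.inr rfl]
  by_cases hc : ∃ u0 ∈ N, Nat.card ↥(S x y ⊓ S x u0) = 2 ^ (k + 3)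
  · obtain ⟨u0, c1, c2⟩ := hc
    refine Or.inl ⟨u0, fun u hu hu' => ?_⟩
    by_contra hn
    obtain ⟨c3, c4⟩ := (mem_filter.1 c1).2
    have uN : u ∈ N := mem_filter.2 ⟨mem_univ _, hu', hu⟩
    have e1 := sum_le_sum_of_subset (f := fun u => Nat.card ↥(S x y ⊓ S x u) - 2)
      (s := insert u ((univ.filter (· ∈ S x y)).image (u0 + ·))) (t := N) (by
        intro w hw
        rcases mem_insert.1 hw with rfl | hw
        · exact uN
        · obtain ⟨m, hm, rfl⟩ := mem_image.1 hw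
          have hm := (mem_filter.1 hm).2
          exact mem_filter.2 ⟨mem_univ _, (add_mem_cancel_right hm).not.2 c3, hS.om_per hi c4 hm⟩)
    rw [sum_insert, sum_image (fun _ _ _ _ e => add_left_cancel e),
      sum_congr rfl (g := fun _ => 2 ^ (k + 3) - 2), sum_const, smul_eq_mul, e] at e1
    · have e3 : #(univ.filter (· ∈ S x y)) = 2 * 2 ^ (k + 3) := by
        rw [← hh, ← Fintype.card_subtype, Nat.card_eq_fintype_card]
      have e4 := key u uN
      have e5 : 2 * 2 ^ (k + 3) * (2 ^ (k + 3) - 2) = (2 * 2 ^ (k + 3) - 4) * 2 ^ (k + 3) := by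
        rw [show 2 * 2 ^ (k + 3) - 4 = 2 * (2 ^ (k + 3) - 2) by omega]; ring
      rw [e3, e5] at e1
      have := Nat.one_le_two_pow (n := k)
      rw [pow_add, pow_add] at e4
      omega
    · intro m hm
      obtain ⟨g, g1, g2, g3⟩ := hS.per x y u0 m hi c3 (mem_filter.1 hm).2
      have e1 := hS.crd2 g x y u0
      rw [g1, g2, g3] at e1
      rw [e1, c2]
    · intro hw
      obtain ⟨m, hm, rfl⟩ := mem_image.1 hw
      exact hn (by rw [add_right_comm, h.two, zero_add]; exact (mem_filter.1 hm).2)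
  · push Not at hc
    rw [sum_congr rfl (g := fun _ => 2 ^ (k + 2) - 2) (fun u hu => by
      rw [(key u hu).resolve_right (hc u hu)]), sum_const, smul_eq_mul, ← pow_succ'] at e
    obtain rfl := num_16 e
    refine Or.inr ⟨hh, ?_⟩
    have e1 := Set.ncard_inter_add_ncard_sdiff_eq_ncard (Om h S x y) (S x y)
    rw [show Om h S x y ∩ S x y = S x y from Set.inter_eq_right.2 fun u hu => Or.inl hu, show Om h S x y \ S x y = N from
      Set.ext fun u => by simp [hN, and_comm], Set.ncard_coe_finset, ← Nat.card_coe_set_eq,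
      SetLike.coe_sort_coe, hh] at e1
    omega

theorem ix (hS : Tri h S) (nb : NB h S) {x y z q q' : V} (hi : I2 x y) (a : z ∈ S x y)
    (b : z ∉ ln2 h.two x y) (c1 : q ∈ S x z) (c2 : q' ∈ S x z) (c3 : q ∉ S x y) (c4 : q' ∉ S x y) :
    q + q' ∈ S x y :=
  (idx2 (inf_le_left : S x z ⊓ S x y ≤ _) (hS.half nb (hi.third b).1 (hS.sym x y z hi a b)
    (hi.third b).2) c1 c2 (fun c => c3 c.2) fun c => c4 c.2).2

theorem inE (hS : Tri h S) (nb : NB h S) {x y z t : V} (hi : I2 x y) (a : z ∈ S x y)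
    (b : z ∉ ln2 h.two x y) (h16 : Nat.card (S x y) = 16) (B : AddSubgroup V) (h1 : x ∈ B)
    (h2 : y ∈ B) (h3 : z ∈ B) (t1 : t ∈ S x y) (t2 : t ∈ S x z) : t ∈ B := by
  have e1 := hS.half nb hi a b
  have e2 := hS.eight_le' hi a b B h1 h2 h3
  have e := eq_of_le_of_card_ge (inf_le_left : S x y ⊓ S x z ⊓ B ≤ _) (by omega)
  have : t ∈ S x y ⊓ S x z ⊓ B := by rw [e]; exact ⟨t1, t2⟩
  exact this.2

theorem third (hS : Tri h S) (nb : NB h S) {x y z q r : V} (hi : I2 x y) (a : z ∈ S x y)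
    (b : z ∉ ln2 h.two x y) (h16 : Nat.card (S x y) = 16) (q1 : q ∈ S x z) (q2 : q ∉ S x y)
    (r1 : r ∈ S y z) (r2 : r ∉ S x y) : q + r ∈ Om h S x y ∧ q + r ∉ S x y := by
  have k1 := h.two x; have k2 := h.two y; have k3 := h.two z
  have i1 := hi.add h.two
  have e1 : S (y + x) x = S x y := (hS.sw _ _ i1).trans (hS.ad _ _ hi)
  have b1 : z ∉ ln2 h.two (y + x) x := by rwa [ln2_comm, ln2_add]
  have b2 : z ∉ ln2 h.two y x := by rwa [ln2_comm]
  have a2 : z ∈ S y x := by rwa [hS.sw _ _ hi]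
  obtain ⟨u, u1, u2⟩ := hS.exists_nb nb i1.symm (e1 ▸ a) b1
  rw [e1] at u2
  have j1 := hi.third b
  have j2 := hi.symm.third b2
  have j3 := i1.symm.third b1
  have uO : u ∈ Om h S x y := by
    have := hS.om_ad i1 (hS.om_sw i1.symm (Or.inr ⟨z, e1 ▸ a, b1, u1⟩))
    rwa [add_assoc, k1, add_zero] at this
  have u3 : u ∈ S z (y + x) := by rwa [hS.sw _ _ j3.1]
  obtain ⟨r', r3, q', q3, rfl⟩ := mem_sup.1 (hS.sub z y x j2.1.symm j1.1.symm j3.1.symm u3)
  have y1 : y ∈ S x z := hS.sym x y z hi a b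
  have x1 : x ∈ S y z := hS.sym y x z hi.symm a2 b2
  have m : y + x ∈ S x y := add_mem (hS.m2 _ _) (hS.m1 _ _)
  rw [hS.sw _ _ j2.1] at r3
  rw [hS.sw _ _ j1.1] at q3
  have q4 : q' ∉ S x y := fun c => u2 (hS.inE nb (x := z) (y := y) (z := y + x) j2.1.symm
    (by rw [hS.sw _ _ j2.1]; exact add_mem (hS.m1 _ _) x1)
    (by have := j2.2; clear * - this k1 k2 k3; simp only [mem_ln2] at *; grind)
    ((hS.crd j2.1.symm hi).trans h16) _ a (hS.m2 _ _) m (by
      rw [hS.sw _ _ j2.1]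
      exact add_mem r3 (hS.inE nb hi a b h16 _ x1 (hS.m1 _ _) (hS.m2 _ _) c q3)) u3)
  have r4 : r' ∉ S x y := fun c => u2 (hS.inE nb (x := z) (y := x) (z := y + x) j1.1.symm
    (by rw [hS.sw _ _ j1.1]; exact add_mem y1 (hS.m1 _ _))
    (by have := j1.2; clear * - this k1 k2 k3; simp only [mem_ln2] at *; grind)
    ((hS.crd j1.1.symm hi).trans h16) _ a (hS.m1 _ _) m (by
      rw [hS.sw _ _ j1.1]
      exact add_mem (hS.inE nb hi.symm a2 b2 ((hS.crd hi.symm hi).trans h16) _ y1 (hS.m1 _ _)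
        (hS.m2 _ _) (by rwa [hS.sw _ _ hi]) r3) q3) u3)
  have s1 := hS.ix nb hi a b q1 q3 q2 q4
  have s2 := hS.ix nb hi.symm a2 b2 r1 r3 (by rwa [hS.sw _ _ hi]) (by rwa [hS.sw _ _ hi])
  rw [hS.sw _ _ hi] at s2
  have e : q + r = r' + q' + (q + q' + (r + r')) := by
    linear_combination (norm := abel1) - h.two q' - h.two r'
  rw [e]
  exact ⟨hS.om_per hi uO (add_mem s1 s2), (add_mem_cancel_right (add_mem s1 s2)).not.2 u2⟩

theorem om_eq (hS : Tri h S) (nb : NB h S) {x y z : V} (hi : I2 x y) (a : z ∈ S x y)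
    (b : z ∉ ln2 h.two x y) : Om h S x y = ↑(S x y ⊔ S x z ⊔ S y z) ∧
      (Nat.card ↥(S x y ⊔ S x z ⊔ S y z) = 2 * Nat.card (S x y) ∨
        Nat.card ↥(S x y ⊔ S x z ⊔ S y z) = 64) := by
  obtain ⟨u1, c1, c2⟩ := hS.exists_nb nb hi a b
  have b2 : z ∉ ln2 h.two y x := by rwa [ln2_comm]
  have a2 : z ∈ S y x := by rwa [hS.sw _ _ hi]
  have o1 : ∀ q ∈ S x z, q ∈ Om h S x y := fun q hq => Or.inr ⟨z, a, b, hq⟩
  have o2 : ∀ q ∈ S y z, q ∈ Om h S x y := fun q hq => hS.om_sw hi.symm (Or.inr ⟨z, a2, b2, hq⟩)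
  rcases hS.dich nb hi with ⟨u0, hu⟩ | ⟨h16, h64⟩
  · have e1 : Om h S x y ⊆ ↑(S x y ⊔ S x z) := fun u hu' => by
      by_cases c : u ∈ S x y
      · exact mem_sup_left c
      · have := add_mem (mem_sup_left (add_mem (hu u hu' c) (hu u1 (o1 _ c1) c2)))
          (mem_sup_right c1 : u1 ∈ S x y ⊔ S x z)
        rwa [show u + u0 + (u1 + u0) + u1 = u by
          linear_combination (norm := abel1) h.two u0 + h.two u1] at this
    have e2 : S x y ⊔ S x z ⊔ S y z = S x y ⊔ S x z := sup_eq_left.2 fun q hq => e1 (o2 q hq)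
    rw [e2]
    refine ⟨e1.antisymm fun u hu' => ?_, Or.inl ?_⟩
    · obtain ⟨p, hp, q, hq, rfl⟩ := mem_sup.1 hu'
      rw [add_comm]
      exact hS.om_per hi (o1 q hq) hp
    · have e3 := card_sup_inf (S x y) (S x z)
      rw [hS.crd (hi.third b).1 hi] at e3
      refine Nat.eq_of_mul_eq_mul_right (Nat.card_pos (α := ↥(S x y ⊓ S x z))) ?_
      rw [e3, mul_right_comm, ← hS.half nb hi a b]
  · have e1 : ↑(S x y ⊔ S x z ⊔ S y z) ⊆ Om h S x y := fun u hu' => by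
      obtain ⟨_, hp, r, hr, rfl⟩ := mem_sup.1 hu'
      obtain ⟨p, hp', q, hq, rfl⟩ := mem_sup.1 hp
      rw [add_assoc, add_comm]
      refine hS.om_per hi ?_ hp'
      by_cases d1 : q ∈ S x y
      · rw [add_comm]; exact hS.om_per hi (o2 r hr) d1
      by_cases d2 : r ∈ S x y
      · exact hS.om_per hi (o1 q hq) d2
      exact (hS.third nb hi a b h16 hq d1 hr d2).1
    obtain ⟨u2, c3, c4⟩ := hS.exists_nb nb hi.symm a2 b2
    rw [hS.sw _ _ hi] at c4
    have e2 := two_mul_card_le (le_sup_left : S x y ≤ S x y ⊔ S x z) (mem_sup_right c1) c2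
    have e3 := two_mul_card_le (le_sup_left : S x y ⊔ S x z ≤ S x y ⊔ S x z ⊔ S y z)
      (mem_sup_right c3) fun c => by
        obtain ⟨p, hp, q, hq, e⟩ := mem_sup.1 c
        have d1 : q ∉ S x y := fun d => c4 (e ▸ add_mem hp d)
        refine (hS.third nb hi a b h16 hq d1 c3 c4).2 ?_
        rwa [← e, add_comm p, ← add_assoc, h.two, zero_add]
    have e4 := Set.eq_of_subset_of_ncard_le e1 (by
      rw [h64, ← Nat.card_coe_set_eq, SetLike.coe_sort_coe]; omega)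
    refine ⟨e4.symm, Or.inr ?_⟩
    rwa [← e4, ← Nat.card_coe_set_eq, SetLike.coe_sort_coe] at h64

theorem false_of_hyp (hS : Tri h S) (nb : NB h S) {x y : V} (hi : I2 x y)
    (hc : Nat.card V = 2 * Nat.card (S x y)) : False := by
  classical
  obtain ⟨z, a, b⟩ := hS.big x y hi
  obtain ⟨v, -, hv⟩ := hS.exists_nb nb hi a b
  have ix : ∀ x' y' p q, I2 x' y' → p ∉ S x' y' → q ∉ S x' y' → p + q ∈ S x' y' :=
    fun x' y' p q i => idx2 le_top (by rw [card_top, hc, hS.crd hi i]) trivial trivial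
  obtain ⟨l, l1, l2⟩ := exists_dual h.two _ hv
  have lk : ∀ u, u ∈ ((ev V).flip (show Du V from l)).ker ↔ u ∈ S x y := fun u =>
    ⟨fun c => by
      by_contra d
      have := l1 _ (ix x y u v hi d hv)
      rw [map_add, l2, show l u = 0 from c] at this
      simp at this, l1 u⟩
  have l0 : (show Du V from l) ≠ 0 := fun e => hv ((lk v).1 (by rw [e]; simp))
  letI := TT.ha (G := G) (show Du V from l)
  have ha := h.afh_hyp l0
  have st : ∀ (g : stabilizer G (show Du V from l)) w u, S w u = S x y →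
      S ((g : G) • w) ((g : G) • u) = S x y := fun g w u e => by
    ext t
    obtain ⟨t, rfl⟩ := MulAction.surjective (g : G) t
    rw [hS.eqv', e, ← lk, ← lk]
    change ev V t _ = 0 ↔ ev V _ _ = 0
    rw [← ev_inv (g : G) t, show (g : G) • (show Du V from l) = l from g.2]
  have un : ∀ w u u', I2 w u → I2 w u' → S w u = S x y → S w u' = S x y → u' ∈ ln2 h.two w u :=
    fun w u u' i i' e e' => by
      by_contra c
      exact nb w u u' i (by rw [e, ← e']; exact hS.m2 _ _) c (e'.trans e.symm)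
  let w0 : ((ev V).flip (show Du V from l)).ker := ⟨x, (lk x).2 (hS.m1 _ _)⟩
  let y0 : ((ev V).flip (show Du V from l)).ker := ⟨y, (lk y).2 (hS.m2 _ _)⟩
  have i2 : ∀ {a b : ((ev V).flip (show Du V from l)).ker}, I2 a b ↔ I2 (a : V) b := by
    intro a b
    unfold I2
    simp only [ne_eq, Subtype.ext_iff, ZeroMemClass.coe_zero]
  have i0 : I2 w0 y0 := i2.2 hi
  obtain ⟨F, hF, hF'⟩ := ha.exists_fam (w0 := w0) (y0 := y0) (fun m m' c1 c2 => by
    obtain ⟨g, g1, g2⟩ := ha.af w0 w0 m m' c1 c2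
    refine ⟨g, g1, ?_, g2⟩
    have g3 : (g : G) • x = x := congrArg Subtype.val g1
    have e := st g x y rfl
    have i := hi.smul (g : G)
    rw [g3] at e i
    rcases un x y _ hi i rfl e with c | c | c | c
    exacts [absurd c i.2.1, absurd c i.2.2, Or.inl (Subtype.ext c),
      Or.inr (Subtype.ext (c.trans (add_comm _ _)))]) i0.1 i0.2.1 i0.2.2
  have m2 : ∀ {w u t : ((ev V).flip (show Du V from l)).ker},
      t ∈ ln2 ha.two w u ↔ (t : V) ∈ ln2 h.two w u := by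
    simp only [mem_ln2, Subtype.ext_iff, ZeroMemClass.coe_zero, AddMemClass.coe_add, implies_true]
  have f1 : ∀ w u, u ∈ F w → u ≠ 0 → u ≠ w → I2 w u ∧ S w u = S x y := fun w u hu c1 c2 => by
    obtain c | c | ⟨g, rfl, rfl⟩ := (hF' w u).1 hu
    exacts [absurd c c1, absurd c c2, ⟨i0.smul g, st g x y rfl⟩]
  have f2 : ∀ w u : ((ev V).flip (show Du V from l)).ker, I2 w u → S w u = S x y →
      F w = ln2 ha.two w u := fun w u i e => by
    obtain ⟨u', c1, c2, c3⟩ := hF.big w i.1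
    obtain ⟨c4, c5⟩ := f1 w u' c1 c2 c3
    have c6 : u ∈ F w := by
      rcases m2.2 (un w u' u (i2.1 c4) (i2.1 i) c5 e) with c | c | c | c <;> rw [c]
      exacts [zero_mem _, hF.self _, c1, add_mem (hF.self _) c1]
    refine le_antisymm (fun t ht => ?_) ?_
    · by_cases d1 : t = 0
      · exact Or.inl d1
      by_cases d2 : t = w
      · exact Or.inr (Or.inl d2)
      exact m2.2 (un w u t (i2.1 i) (i2.1 (f1 w t ht d1 d2).1) e (f1 w t ht d1 d2).2)
    · rintro _ (rfl | rfl | rfl | rfl)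
      exacts [zero_mem _, hF.self _, c6, add_mem (hF.self _) c6]
  have iv : ∀ w : ((ev V).flip (show Du V from l)).ker, w ≠ 0 → I2 v w := fun w c =>
    ⟨fun e => hv (e ▸ zero_mem _), fun e => c (Subtype.ext e), fun e => hv (e ▸ (lk _).1 w.2)⟩
  refine false_of_lines ha.two ⊤ F (fun w u => if I2 v w ∧ (u : V) ∉ S v w then 1 else 0)
    (fun w _ c => ?_) (fun w _ c u hu d => ?_) (fun w _ w' _ => ha.subadd hF)
    (fun w _ p _ q _ => ?_) (fun w _ u _ => if_congr ?_ rfl rfl) (fun w _ c u hu d1 d2 => ?_)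
    (e1 := w0) (e3 := ⟨z, (lk z).2 a⟩) trivial trivial i0.1 ?_
  · obtain ⟨u, c1, c2, c3⟩ := hF.big w c
    exact ⟨u, trivial, c2, c3, f2 w u (f1 w u c1 c2 c3).1 (f1 w u c1 c2 c3).2⟩
  · by_cases d2 : u = w
    · rw [d2]
    · obtain ⟨c1, c2⟩ := f1 w u hu d d2
      rw [f2 w u c1 c2, f2 u w c1.symm ((hS.sw _ _ (i2.1 c1)).trans c2), ln2_comm]
  · by_cases i : I2 v w
    · simp only [i, true_and, AddMemClass.coe_add]
      by_cases d1 : (p : V) ∈ S v w <;> by_cases d2 : (q : V) ∈ S v w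
      · simp [d1, d2, add_mem d1 d2]
      · simp [d1, d2, add_mem_cancel_left d1]
      · simp [d1, d2, add_mem_cancel_right d2]
      · simp [d1, d2, ix _ _ _ _ i d1 d2, z2_two]
    · simp [i]
  · exact ⟨fun c => hS.nm c.1 c.2, fun c => hS.nm c.1 c.2⟩
  · obtain ⟨c1, c2⟩ := f1 w u hu d1 d2
    have := hS.nm (i2.1 c1) (c2 ▸ hv)
    exact if_pos ⟨this.1.symm, by rw [hS.sw _ _ this.1]; exact this.2⟩
  · rw [f2 w0 y0 i0 rfl, m2]
    exact b

theorem false_of_nb (hS : Tri h S) (ih : IH.{u, v} V) (nb : NB h S) : False := by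
  have e : ∀ x y z, I2 x y → z ∈ S x y → z ∉ ln2 h.two x y →
      closure (Om h S x y) = S x y ⊔ S x z ⊔ S y z := fun x y z i a b => by
    rw [(hS.om_eq nb i a b).1, closure_eq]
  have e1 : ∀ x y z, I2 x y → z ∈ S x y → z ∉ ln2 h.two x y →
      closure (Om h S x z) = closure (Om h S x y) := fun x y z i a b => by
    rw [e x y z i a b, e x z y (i.third b).1 (hS.sym x y z i a b) (i.third b).2, sup_comm (S x z),
      hS.sw y z (i.symm.third (by rwa [ln2_comm])).1]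
  have e2 : ∀ x y u, I2 x y → u ∈ closure (Om h S x y) → u ∈ Om h S x y := fun x y u i hu => by
    obtain ⟨z, a, b⟩ := hS.big x y i
    rw [e x y z i a b] at hu
    rwa [(hS.om_eq nb i a b).1]
  obtain ⟨x, y, hi, -⟩ := hS.blk
  obtain ⟨z, a, b⟩ := hS.big x y hi
  obtain ⟨u, c1, c2⟩ := hS.exists_nb nb hi a b
  have fin : ¬ ∃ g : G, g • x = x ∧ g • y = y ∧ g • z = u := by
    rintro ⟨g, g1, g2, rfl⟩
    have := hS.eqv g x y z a
    rw [g1, g2] at this
    exact c2 this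
  by_cases ht : closure (Om h S x y) = ⊤
  · have := (hS.om_eq nb hi a b).2
    rw [← e x y z hi a b, ht, card_top] at this
    rcases this with c | c
    · exact hS.false_of_hyp nb hi c
    · exact fin (h.tri_of_64 c hi b fun c => c2 (hS.le _ _ c))
  refine fin ((blocks h ih (fun x y => closure (Om h S x y)) (fun g x y u hu => ?_)
    (fun x y i => ?_) (fun x y u i hu d1 d2 => ?_) hi (subset_closure (Or.inl (hS.m1 _ _)))
    (subset_closure (Or.inl (hS.m2 _ _))) ht).1 z (subset_closure (Or.inl a)) u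
    (subset_closure (Or.inr ⟨z, a, b, c1⟩)) b fun c => c2 (hS.le _ _ c))
  · exact (closure_le (K := (AddSubgroup.closure (Om h S (g • x) (g • y))).comap
      (DistribSMul.toAddMonoidHom V g))).2 (fun u hu => subset_closure (hS.om_eqv g hu)) hu
  · exact congrArg AddSubgroup.closure (Set.ext fun u => ⟨hS.om_sw i.symm, hS.om_sw i⟩)
  · by_cases d3 : u ∈ S x y
    · by_cases d4 : u ∈ ln2 h.two x y
      · rcases d4 with d | d | d | d
        · exact absurd d d1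
        · exact absurd d d2
        · rw [d]
        · rw [d, add_comm]
          refine congrArg AddSubgroup.closure (Set.ext fun u => ⟨fun c => ?_, hS.om_ad i⟩)
          have := hS.om_ad (i.add h.two) c
          rwa [add_assoc, h.two, add_zero] at this
      · exact e1 x y u i d3 d4
    · obtain ⟨t, t1, t2, t3⟩ := (e2 x y u i hu).resolve_left d3
      rw [e1 x t u (i.third t2).1 t3, e1 x y t i t1 t2]
      rintro (rfl | rfl | rfl | rfl)
      exacts [d1 rfl, d2 rfl, d3 t1, d3 (add_mem (hS.m1 _ _) t1)]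

end Tri

theorem TT.p3 (h : TT G V) (ih : IH.{u, v} V) : P3 h := by
  intro x y z x' y' z' hi hi' hz hz'
  obtain ⟨S, hS⟩ := h.exists_tri hi hz
  by_cases hne : ∀ x y, I2 x y → ∃ u, u ∉ S x y
  · exfalso
    by_cases hb : ∀ x y z, I2 x y → z ∈ S x y → z ∉ ln2 h.two x y → S x z = S x y
    · exact hS.false_of_blk ih hb hne
    · push Not at hb
      obtain ⟨x, y, z, i, a, b, c⟩ := hb
      refine hS.false_of_nb ih fun x' y' z' i' a' b' e => c ?_
      obtain ⟨g, rfl, rfl, rfl⟩ := hS.tr _ _ _ _ _ _ i i' a b a' b'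
      ext u
      rw [← hS.eqv' g, e, hS.eqv']
  · push Not at hne
    obtain ⟨a, b, i, hu⟩ := hne
    have e : ∀ x y u, I2 x y → u ∈ S x y := fun x y u i' => by
      obtain ⟨g, rfl, rfl⟩ := h.tr _ _ _ _ i i'
      simpa using hS.eqv g _ _ _ (hu (g⁻¹ • u))
    exact hS.tr _ _ _ _ _ _ hi hi' (e _ _ _ hi) hz (e _ _ _ hi') hz'

end Cfsg.Agent.AF
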