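import Cfsg.Agent.Lib.AF.TwoD

/-!
# Doubly transitive linear groups over the field with two elements, part E
-/

set_option autoImplicit false
set_option linter.unusedSectionVars false

namespace Cfsg.Agent.AF

open Finset MulAction AddSubgroup

universe u v

variable {V : Type u} [AddCommGroup V] [Finite V] {G : Type v} [Group G] [Finite G]
  [DistribMulAction G V]

/-- all transvections are induced -/
def PF (G : Type v) (V : Type u) [AddCommGroup V] [Group G] [DistribMulAction G V] : Prop :=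
  ∀ (c : V) (l : V →+ ZMod 2), l c = 0 → ∃ g : G, ∀ v, g • v = v + sm (l v) c

theorem smul_sm (g : G) (a : ZMod 2) (c : V) : g • sm a c = sm a (g • c) := by
  unfold sm; split_ifs <;> simp

theorem map_sm (l : V →+ ZMod 2) (a : ZMod 2) {c : V} (h : l c = 0) : l (sm a c) = 0 := by
  unfold sm; split_ifs <;> simp [h]

theorem sm_mem {A : AddSubgroup V} (a : ZMod 2) {c : V} (h : c ∈ A) : sm a c ∈ A := by
  unfold sm; split_ifs
  exacts [zero_mem _, h]

theorem TT.pf_of_one (h : TT G V) {g : G} {c v0 : V} (hg : ∀ v, g • v + v ∈ ln1 h.two c)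
    (hv : g • v0 ≠ v0) : PF G V := by
  obtain ⟨l, hl⟩ := exists_sm h.two (fun v => g • v + v) (fun u v => by rw [smul_add]; abel) hg
  have e0 : sm (l v0) c ≠ 0 := fun e => hv ((two_eq h.two).1 ((hl v0).trans e))
  have c0 : c ≠ 0 := fun e => e0 (by simp [e])
  have l0 : (show Du V from l) ≠ 0 := fun e => e0 (by rw [show l = 0 from e]; simp)
  have lc : l c = 0 := z2_zero fun e => by
    have := hl c
    rw [e, sm_one, add_eq_right, smul_eq_zero_iff_eq] at this
    exact c0 this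
  intro c' l' h'
  by_cases c1 : c' = 0
  · exact ⟨1, by simp [c1]⟩
  by_cases l1 : l' = 0
  · exact ⟨1, by simp [l1]⟩
  obtain ⟨k, rfl, k2⟩ := h.flag (l := l) (l' := l') c0 c1 lc h' l0 l1
  refine ⟨k * g * k⁻¹, fun v => ?_⟩
  have e1 : g • k⁻¹ • v = k⁻¹ • v + sm (l (k⁻¹ • v)) c := by
    rw [← hl, add_comm (g • _), ← add_assoc, h.two, zero_add]
  rw [mul_smul, mul_smul, e1, smul_add, smul_inv_smul, smul_sm, ← show _ = l' from k2]
  rfl

theorem PF.pt (h : TT G V) (hf : PF G V) : PT h := fun x _ c l h1 h2 => by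
  obtain ⟨g, hg⟩ := hf c l h2
  exact ⟨g, by simp [hg, h1], fun v => by rw [hg, h.two]; exact zero_mem _⟩

theorem PF.all (h2 : ∀ v : V, v + v = 0) (hf : PF G V) (φ : V →+ V) (hφ : Function.Injective φ) :
    ∃ g : G, ∀ v, g • v = φ v := by
  suffices H : ∀ F : AddSubgroup V, ∀ φ : V →+ V, Function.Injective φ → (∀ u ∈ F, φ u = u) →
      ∃ g : G, ∀ v, g • v = φ v from H ⊥ φ hφ (by simp)
  intro F
  induction F using WellFoundedGT.induction with
  | ind F ih =>
  intro φ hφ hF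
  by_cases hv : ∀ v, φ v = v
  · exact ⟨1, by simp [hv]⟩
  push Not at hv
  obtain ⟨v, hv⟩ := hv
  have n1 : v ∉ F := fun e => hv (hF v e)
  have n2 : φ v ∉ F := fun e => hv (hφ (hF _ e))
  obtain ⟨l1, a1, b1⟩ := exists_dual h2 F n1
  obtain ⟨l2, a2, b2⟩ := exists_dual h2 F n2
  obtain ⟨l, a, b, c⟩ : ∃ l : V →+ ZMod 2, (∀ u ∈ F, l u = 0) ∧ l v = 1 ∧ l (φ v) = 1 := by
    rcases z2_cases (l1 (φ v)) with e | e
    · rcases z2_cases (l2 v) with e' | e'
      · exact ⟨l1 + l2, fun u hu => by simp [a1 u hu, a2 u hu], by simp [b1, e'], by simp [e, b2]⟩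
      · exact ⟨l2, a2, e', b2⟩
    · exact ⟨l1, a1, b1, e⟩
  obtain ⟨g, hg⟩ := hf (φ v + v) l (by simp [b, c, z2_two])
  obtain ⟨k, hk⟩ := ih (F ⊔ ln1 h2 v) (lt_of_le_of_ne le_sup_left fun e => n1
    (e ▸ mem_sup_right (Or.inr rfl))) ((DistribSMul.toAddMonoidHom V g).comp φ)
    ((MulAction.injective g).comp hφ) fun u hu => by
      obtain ⟨p, hp, q, hq, rfl⟩ := mem_sup.1 hu
      rw [map_add]
      congr 1
      · simp [hF p hp, hg, a p hp]
      · rcases hq with rfl | rfl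
        · simp
        · simp [hg, c, ← add_assoc, h2]
  exact ⟨g⁻¹ * k, fun u => by simp [mul_smul, hk]⟩

theorem TT.exists_inv (h : TT G V) {x y : V} (hi : I2 x y) :
    ∃ z : G, z • x = x ∧ (∀ v : V, z • z • v = v) ∧ ∃ v, z • v + v = x := by
  obtain ⟨T, hT, hp, ho⟩ := exists_syl (stabilizer G x)
  have tr : ∀ l l' : Du V, ev V x l = 1 → ev V x l' = 1 → ∃ t ∈ T, t • l = l' := by
    intro l l' hl hl'
    obtain ⟨k, hk⟩ := ncard_fiber_pow two_du ⊤ (ev V x) (mem_top l) hl 1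
    obtain ⟨g, hg, rfl⟩ := h.afh.af x x l l' hl hl'
    refine trans_of_odd (a := l) (k := k) ho ?_ hg
    rw [← hk]; congr 1; ext a
    exact ⟨fun ⟨g, hg, e⟩ => ⟨trivial, by rw [← e, ← show g • x = x from hg, ev_inv, hl]⟩,
      fun ha => h.afh.af x x l a hl ha.2⟩
  obtain ⟨l0, hl0⟩ := (pr_ev h.two).exists_one hi.1
  obtain ⟨m, m1, m2⟩ := (pr_ev h.two).sep1 hi.2.1 hi.2.2
  have hR : IsPGroup 2 (toPermHom T V).range :=
    hp.of_surjective _ (toPermHom T V).rangeRestrict_surjective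
  have : Nontrivial (toPermHom T V).range := by
    obtain ⟨t, ht, e⟩ := tr l0 (l0 + m) hl0 (by simp [hl0, m1])
    refine ⟨⟨_, ⟨t, ht⟩, rfl⟩, 1, fun e' => ?_⟩
    have e1 : t • y = y := congrArg (fun p : (toPermHom T V).range => (p : Equiv.Perm V) y) e'
    have := ev_inv t y l0
    rw [e1, e, map_add, m2] at this
    simp at this
  have := hR.center_nontrivial
  obtain ⟨n, n0, hn⟩ := (hR.to_subgroup (Subgroup.center _)).nontrivial_iff_card.1 this
  obtain ⟨⟨⟨_, z, rfl⟩, zc⟩, hz⟩ := exists_prime_orderOf_dvd_card' (G := Subgroup.center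
    (toPermHom T V).range) 2 (hn ▸ dvd_pow_self 2 n0.ne')
  have z2 : ∀ v : V, (z : G) • (z : G) • v = v := fun v => by
    have e := pow_orderOf_eq_one (⟨⟨toPermHom T V z, z, rfl⟩, zc⟩ :
      Subgroup.center (toPermHom T V).range)
    rw [hz, pow_two] at e
    exact congrArg (fun p : Subgroup.center (toPermHom T V).range => (p : Equiv.Perm V) v) e
  have z3 : ∀ t ∈ T, ∀ v : V, t • (z : G) • v = (z : G) • t • v := fun t ht v => congrArg
    (fun p : (toPermHom T V).range => (p : Equiv.Perm V) v)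
    (Subgroup.mem_center_iff.1 zc ⟨_, ⟨t, ht⟩, rfl⟩)
  refine ⟨z, hT z.2, z2, ?_⟩
  by_contra hc
  obtain ⟨l, l1, l2⟩ := exists_dual h.two (DistribSMul.toAddMonoidHom V (z : G) +
    AddMonoidHom.id V).range (v := x) hc
  have k1 : ∀ l' : Du V, ev V x l' = 1 → ∀ v, ev V ((z : G) • v + v) l' = 0 := fun l' hl' v => by
    obtain ⟨t, ht, rfl⟩ := tr l l' l2 hl'
    obtain ⟨v, rfl⟩ := MulAction.surjective t v
    rw [← z3 t ht, ← smul_add]
    exact (ev_inv t _ (show Du V from l)).trans (l1 _ ⟨v, rfl⟩)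
  have k2 : ∀ v : V, (z : G) • v = v := fun v => by
    by_contra e
    obtain ⟨l', hl'⟩ := (pr_ev h.two).exists_one ((two_eq h.two).not.2 e)
    rcases z2_cases (ev V x l') with e' | e'
    · have := k1 (l' + l0) (by simp [e', hl0]) v
      rw [map_add, k1 l0 hl0, hl'] at this
      simp at this
    · rw [k1 l' e'] at hl'
      simp at hl'
  rw [orderOf_eq_one_iff.2 (Subtype.ext (Subtype.ext (Equiv.ext k2)))] at hz
  omega

theorem TT.small (h : TT G V) {x y : V} (hi : I2 x y) (hV : Nat.card V < 64) :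
    PF G V ∨ (16 ≤ Nat.card V ∧ ∃ (z : G) (c v : V), z • x = x ∧ (∀ v, z • v + v ∈ ln2 h.two x c) ∧
      z • v + v ∉ ln1 h.two x) := by
  obtain ⟨z, z1, z2, v0, z3⟩ := h.exists_inv hi
  by_cases hc : ∀ v, z • v + v ∈ ln1 h.two x
  · exact Or.inl (h.pf_of_one hc (v0 := v0) fun e => hi.1 (by rw [← z3, e, h.two]))
  push Not at hc
  obtain ⟨v, hv⟩ := hc
  set N := DistribSMul.toAddMonoidHom V z + AddMonoidHom.id V
  have e1 : N.range ≤ N.ker := by
    rintro _ ⟨u, rfl⟩
    change z • (z • u + u) + (z • u + u) = 0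
    rw [smul_add, z2, add_comm u, h.two]
  have e2 := Nat.mul_le_mul_right (Nat.card N.range) (card_le_of_le e1)
  rw [← index_ker N, card_mul_index, index_ker] at e2
  have i : I2 x (z • v + v) := ⟨hi.1, by rwa [mem_ln1, not_or] at hv⟩
  have e3 : ln2 h.two x (z • v + v) ≤ N.range := by
    have a1 : x ∈ N.range := ⟨v0, z3⟩
    have a2 : z • v + v ∈ N.range := ⟨v, rfl⟩
    rintro _ (rfl | rfl | rfl | rfl)
    exacts [zero_mem _, a1, a2, add_mem a1 a2]
  have e4 := card_le_of_le e3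
  rw [card_ln2 _ i] at e4
  refine Or.inr ⟨by nlinarith, z, z • v + v, v, z1, fun u => ?_, hv⟩
  by_contra hu
  have := two_mul_card_le e3 (v := z • u + u) ⟨u, rfl⟩ hu
  rw [card_ln2 _ i] at this
  nlinarith

theorem exists_not_mem {A : AddSubgroup V} (h : Nat.card A < Nat.card V) : ∃ v, v ∉ A := by
  by_contra hc
  push Not at hc
  rw [(eq_top_iff' A).2 hc, card_top] at h
  omega

theorem TT.pf_of_pt (h : TT G V) (hp : PT h) (hV : 32 ≤ Nat.card V) : PF G V := by
  by_contra hf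
  have nt : ∀ (g : G) (c : V), (∀ v, g • v + v ∈ ln1 h.two c) → ∀ v : V, g • v = v :=
    fun g c hg v => by_contra fun e => hf (h.pf_of_one hg e)
  obtain ⟨x, hx⟩ := exists_not_mem (A := (⊥ : AddSubgroup V)) (by rw [card_bot]; omega)
  rw [mem_bot] at hx
  obtain ⟨c, hc⟩ := exists_not_mem (A := ln1 h.two x) (by rw [card_ln1 _ hx]; omega)
  have i : I2 x c := ⟨hx, by rwa [mem_ln1, not_or] at hc⟩
  obtain ⟨v0, hv⟩ := exists_not_mem (A := ln2 h.two x c) (by rw [card_ln2 _ i]; omega)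
  obtain ⟨l, l1, l2⟩ := exists_dual h.two _ hv
  have lx := l1 x (by simp [mem_ln2])
  have lc := l1 c (by simp [mem_ln2])
  obtain ⟨τ, t1, t2⟩ := hp x hx c l lx lc
  obtain ⟨m, hm⟩ := exists_sm h.two (fun v => τ • v + (v + sm (l v) c)) (fun u v => by
    rw [smul_add, map_add, sm_add h.two]; abel) t2
  obtain ⟨u0, a1, a2⟩ : ∃ u0, l u0 = 0 ∧ m u0 = 1 := by
    by_contra hu
    push Not at hu
    have e : ∀ v, l v = 1 → τ • v + v = c + sm (m v0) x := fun v e => by
      have := z2_zero (hu (v + v0) (by simp [e, l2, z2_two]))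
      rw [map_add, two_eq z2_two] at this
      rw [← this, ← hm, e, sm_one]
      linear_combination (norm := abel1) - h.two c
    have := e v0 l2
    rw [nt τ (c + sm (m v0) x) (fun v => ?_) v0, h.two, eq_comm, two_eq h.two] at this
    · exact hc (this ▸ sm_mem _ (Or.inr rfl))
    · rcases z2_cases (l v) with e' | e'
      · have := hm v
        rw [z2_zero (hu v e'), e'] at this
        exact Or.inl (by simpa using this)
      · exact Or.inr (e v e')
  obtain ⟨u1, ⟨b1, b2⟩, b3⟩ : ∃ u1 ∈ l.ker ⊓ m.ker, u1 ∉ ln2 h.two x c ⊔ ln1 h.two u0 := by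
    by_contra hu
    push Not at hu
    have e1 := two_mul_card_le hu (v := u0) (mem_sup_right (Or.inr rfl)) fun e => by
      simp [show m u0 = 0 from e.2] at a2
    have e2 := card_sup_inf (ln2 h.two x c) (ln1 h.two u0)
    rw [card_ln2 _ i, card_ln1 _ (by rintro rfl; simp at a2)] at e2
    have e3 := (l.ker ⊓ m.ker).card_mul_index
    have e4 := index_inf_le (H := l.ker) (K := m.ker)
    have e5 : ∀ f : V →+ ZMod 2, f.ker.index ≤ 2 := fun f => by
      rw [index_ker]; exact (card_le_card_addGroup _).trans (Nat.card_zmod 2).le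
    have e6 := Nat.mul_le_mul (e5 l) (e5 m)
    have e7 : 0 < Nat.card ↥(ln2 h.two x c ⊓ ln1 h.two u0) := Nat.card_pos
    nlinarith
  obtain ⟨n, n1, n2⟩ := exists_dual h.two _ b3
  have nx := n1 x (mem_sup_left (by simp [mem_ln2]))
  have nc := n1 c (mem_sup_left (by simp [mem_ln2]))
  have nu := n1 u0 (mem_sup_right (Or.inr rfl))
  obtain ⟨σ, s1, s2⟩ := hp x hx u0 n nx nu
  have k : ∀ (f : V →+ ZMod 2) (p q : V), f x = 0 → p + q ∈ ln1 h.two x → f p = f q := by
    rintro f p q e (e' | e') <;> rw [← two_eq z2_two, ← map_add, e']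
    exacts [map_zero f, e]
  have fx : ∀ g : G, g • x = x → ∀ t ∈ ln1 h.two x, g • t = t := by
    rintro g e _ (rfl | rfl)
    exacts [smul_zero g, e]
  have st : (σ * τ)⁻¹ • x = x := by rw [inv_smul_eq_iff, mul_smul, t1, s1]
  have e := nt ((σ * τ)⁻¹ * (τ * σ)) x (fun v => by
    have e1 := t2 (σ • v)
    have e2 := s2 (τ • v)
    rw [k l _ _ lx (s2 v), map_add, map_sm l _ a1, add_zero] at e1
    rw [k n _ _ nx (t2 v), map_add, map_sm n _ nc, add_zero] at e2
    have e3 : τ • σ • v + σ • τ • v ∈ ln1 h.two x := by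
      convert add_mem (add_mem e1 e2) (add_mem (s2 v) (t2 v)) using 1
      linear_combination (norm := abel1) - h.two (σ • v) - h.two (τ • v) - h.two v -
        h.two (sm (l v) c) - h.two (sm (n v) u0)
    rw [← fx _ st _ e3, smul_add, ← mul_smul σ, inv_smul_smul] at e3
    rwa [mul_smul, mul_smul]) u1
  have f1 : τ • u1 = u1 := by
    have := hm u1
    rwa [show l u1 = 0 from b1, show m u1 = 0 from b2, sm_zero, sm_zero, add_zero, two_eq h.two] at this
  have f2 := hm u0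
  rw [a1, a2, sm_zero, sm_one, add_zero] at f2
  rw [mul_smul, inv_smul_eq_iff, mul_smul, mul_smul, f1] at e
  have f3 := fx τ t1 _ (s2 u1)
  rw [n2, sm_one, smul_add, smul_add, e, f1, add_right_inj, add_right_inj] at f3
  rw [f3, h.two] at f2
  exact hx f2.symm

theorem TT.main (n : ℕ) : ∀ (V : Type u) [AddCommGroup V] [Finite V] (G : Type v) [Group G]
    [Finite G] [DistribMulAction G V], Nat.card V = n → ∀ h : TT G V,
    P3 h ∧ PT h ∧ (Nat.card V ≠ 16 → PF G V) := by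
  induction n using Nat.strong_induction_on with
  | _ n ih =>
  intro V _ _ G _ _ _ hn h
  have p3 : P3 h := h.p3 fun V' _ _ G' _ _ _ hlt h' =>
    let ⟨a, b, _⟩ := ih _ (hn ▸ hlt) V' G' rfl h'; ⟨a, b⟩
  have pt : PT h := by
    intro x hx c l l1 l2
    by_cases hc : c ∈ ln1 h.two x
    · exact ⟨1, one_smul _ _, fun v => by
        rw [one_smul, ← add_assoc, h.two, zero_add]; exact sm_mem _ hc⟩
    have i : I2 x c := ⟨hx, by rwa [mem_ln1, not_or] at hc⟩
    letI := h.qa x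
    have ne : ∀ {y u : V}, I2 (y : V ⧸ ln1 h.two x) u → I2 x y ∧ u ∉ ln2 h.two x y := fun {y u} j => by
      have := h.two y
      have a1 := h.mk_ne.1 j.1
      have a2 := h.mk_ne.1 j.2.1
      have a3 := (mk_eq_mk h.two).not.1 j.2.2
      refine ⟨⟨hx, a1⟩, ?_⟩
      rw [mem_ln1] at a3
      rw [mem_ln2]
      grind
    have h' : TT (stabilizer G x) (V ⧸ ln1 h.two x) := ⟨two_quot h.two _, by
      rintro ⟨y⟩ ⟨u⟩ ⟨y'⟩ ⟨u'⟩ j j'
      obtain ⟨g, g1, g2, g3⟩ := p3 x y u x y' u' (ne j).1 (ne j').1 (ne j).2 (ne j').2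
      exact ⟨⟨g, g1⟩, congrArg QuotientAddGroup.mk g2, congrArg QuotientAddGroup.mk g3⟩⟩
    have e := card_eq_card_quotient_mul_card_addSubgroup (ln1 h.two x)
    rw [card_ln1 _ hx] at e
    have sk : ∀ a (c : V), sm a (c : V ⧸ ln1 h.two x) = (sm a c : V) := fun a c => by
      unfold sm; split_ifs <;> rfl
    have fin : PF (stabilizer G x) (V ⧸ ln1 h.two x) → ∃ g : G, g • x = x ∧
        ∀ v, g • v + (v + sm (l v) c) ∈ ln1 h.two x := fun pf => by
      obtain ⟨g, hg⟩ := pf c (QuotientAddGroup.lift _ l (by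
        rintro _ (rfl | rfl); exacts [map_zero l, l1])) l2
      refine ⟨g, g.2, fun v => (mk_eq_mk h.two).1 ((hg v).trans ?_)⟩
      rw [sk]; rfl
    by_cases h16 : Nat.card (V ⧸ ln1 h.two x) = 16
    · obtain pf | ⟨-, z, d, v, z1, z2, z3⟩ := h.small i (by omega)
      · exact pf.pt h x hx c l l1 l2
      refine fin (h'.pf_of_one (g := ⟨z, z1⟩) (c := d) (v0 := v) ?_
        fun e => z3 ((mk_eq_mk h.two).1 e))
      rintro ⟨u⟩
      change ((z • u + u : V) : V ⧸ ln1 h.two x) = 0 ∨ ((z • u + u : V) : V ⧸ ln1 h.two x) = d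
      rw [QuotientAddGroup.eq_zero_iff, mk_eq_mk h.two, mem_ln1, mem_ln1]
      rcases z2 u with e | e | e | e <;> simp [e, add_assoc, h.two]
    · have : 0 < Nat.card (V ⧸ ln1 h.two x) := Nat.card_pos
      exact fin ((ih _ (by omega) _ _ rfl h').2.2 h16)
  refine ⟨p3, pt, fun h16 => ?_⟩
  by_cases h32 : 32 ≤ Nat.card V
  · exact h.pf_of_pt pt h32
  obtain ⟨k, hk⟩ := card_pow h.two
  have hk' : k < 5 := (Nat.pow_lt_pow_iff_right (by norm_num : 1 < 2)).1 (by omega)
  intro c l hl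
  by_cases c0 : c = 0
  · exact ⟨1, by simp [c0]⟩
  by_cases hy : ∀ y, l y = 0
  · exact ⟨1, by simp [hy]⟩
  push Not at hy
  obtain ⟨y, hy⟩ := hy
  refine (h.small (x := c) (y := y) ⟨c0, by rintro rfl; simp at hy, by rintro rfl; exact hy hl⟩
    (by omega)).resolve_right (fun e => ?_) c l hl
  have := e.1
  interval_cases k <;> omega

theorem TT.all (h : TT G V) (hV : Nat.card V ≠ 16) (φ : V →+ V) (hφ : Function.Injective φ) :
    ∃ g : G, ∀ v, g • v = φ v :=
  ((TT.main _ V G rfl h).2.2 hV).all h.two φ hφ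

end Cfsg.Agent.AF
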